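import Cfsg.Agent.Geo.FrameFive.Residual
import Cfsg.Agent.Geo.OrthFrame.Swaps
import Cfsg.Agent.Geo.OrthFrame.Units

/-!
Five coordinates: from a non-root vector related to the frame to one with at most three coordinates.
-/

set_option autoImplicit false
set_option linter.unusedSectionVars false

namespace CfsgLib.Geo.OFrame

open QuadraticMap CfsgLib.Forms CfsgLib.Quad Matrix

variable {F : Type*} [Field F] [Finite F] [DecidableEq F] {H : Subgroup (O F 5)}

/-- An element of order `p` on the space of two frame vectors and a third. -/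
def Unip (H : Subgroup (O F 5)) (p : ℕ) (i k : Fin 5) (f : Fin 5 → F) : Prop :=
  ∃ h ∈ Fix H i k f, (∀ y, InY i k f y → (h ^ p).1 y = y) ∧ ∃ y, InY i k f y ∧ h.1 y ≠ y

theorem sum_sq_supp {n : ℕ} (v : Fin n → F) : v ⬝ᵥ v = ∑ j ∈ supp v, v j * v j := by
  rw [dotProduct]
  exact (Finset.sum_subset (Finset.subset_univ _) fun j _ hj => by rw [not_mem_supp.1 hj, mul_zero]).symm

/-- Removing two coordinates. -/
def rest {n : ℕ} (v : Fin n → F) (i k : Fin n) : Fin n → F := fun t => if t = i ∨ t = k then 0 else v t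

theorem rest_split {n : ℕ} {v : Fin n → F} {i k : Fin n} (hik : i ≠ k) :
    v i • e i + v k • e k + rest v i k = v := by
  funext t
  rcases eq_or_ne t i with rfl | hti
  · simp [rest, e_apply, hik]
  rcases eq_or_ne t k with rfl | htk
  · simp [rest, e_apply, hik.symm]
  · simp [rest, e_apply, hti, htk]

theorem supp_rest {n : ℕ} (v : Fin n → F) (i k : Fin n) :
    supp (rest v i k) = ((supp v).erase i).erase k := by
  ext t
  simp only [mem_supp, rest, Finset.mem_erase]
  split_ifs with h
  · simp only [ne_eq, not_true_eq_false, false_iff]; tauto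
  · tauto

theorem rest_dot {n : ℕ} {v : Fin n → F} {i k : Fin n} (hik : i ≠ k) :
    rest v i k ⬝ᵥ rest v i k = v ⬝ᵥ v - v i * v i - v k * v k := by
  conv_rhs => rw [← rest_split (v := v) hik]
  simp [add_dotProduct, dotProduct_add, smul_dotProduct, dotProduct_smul, dot_e, e_dot, e_apply, hik,
    hik.symm, rest]
  ring

theorem exists_circle {G : F} {t : F} (ht : t ≠ 0) (h2 : (2 : F) ≠ 0) (h1 : G * (t * t) ≠ 1)
    (hm1 : G * (t * t) ≠ -1) : ∃ β γ : F, β ≠ 0 ∧ γ ≠ 0 ∧ β * β + γ * γ * G = 1 := by
  have hd : 1 + G * (t * t) ≠ 0 := fun h => hm1 (by linear_combination h)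
  refine ⟨(1 - G * (t * t)) / (1 + G * (t * t)), 2 * t / (1 + G * (t * t)),
    div_ne_zero (sub_ne_zero.2 h1.symm) hd, div_ne_zero (mul_ne_zero h2 ht) hd, ?_⟩
  rw [div_mul_div_comm, div_mul_div_comm, div_mul_eq_mul_div, ← add_div,
    div_eq_one_iff_eq (mul_ne_zero hd hd)]
  ring

variable (p : ℕ) [Fact p.Prime] [CharP F p]

theorem Over.exists_pair (hH : Over H) (hp : 5 ≤ p) (hcard : Nat.card F = p) {v : Fin 5 → F}
    (hv : InV H v) (hs : 4 ≤ (supp v).card)
    (hq : ¬ ((supp v).card = 4 ∧ ∀ t ∈ supp v, 4 * (v t * v t) = 1)) :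
    ∃ i ∈ supp v, ∃ k ∈ supp v, i ≠ k ∧ Tr H i k (rest v i k) ∧ Unip H p i k (rest v i k) := by
  classical
  by_contra hno
  push Not at hno
  refine hq (residual p hp hcard v hs (by simpa using Finset.card_le_univ (supp v))
    (fun t ht => mem_supp.1 ht) (by rw [← sum_sq_supp, hv.1]) fun i hi k hk hik hne => ?_)
  have hd := rest_dot (v := v) hik
  rw [hv.1] at hd
  have hT : Tr H i k (rest v i k) := ⟨hH, hik, by simp [rest], by simp [rest], by
    rw [hd]; exact fun h => hne (by linear_combination -h)⟩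
  rcases hT.dichotomy p (a := v i) (b := v k) (by rw [rest_split hik]; exact hv) (mem_supp.1 hi)
    (mem_supp.1 hk) with ⟨h, hh, h1, h2⟩ | h | h
  · exact absurd ⟨h, hh, h1, h2⟩ (hno i hi k hk hik hT)
  · exact Or.inl (by rwa [hd] at h)
  · exact Or.inr (by rwa [hd] at h)

theorem Tr.unit_inV {i k : Fin 5} {f : Fin 5 → F} (hT : Tr H i k f) (hp : 5 ≤ p)
    (hcard : Nat.card F = p) (hU : Unip H p i k f) {y : Fin 5 → F} (hy : InY i k f y)
    (h1 : y ⬝ᵥ y = 1) : InV H y := by
  obtain ⟨h, hh, hord, hmove⟩ := hU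
  obtain ⟨g, hg, hgy⟩ := hT.transitive p hcard hp hh hord hmove hT.inY_e_i hy (by rw [ee, h1])
    (by rw [ee]; exact one_ne_zero)
  rw [← hgy]
  exact (hg.1 (e i)).1 (hT.inV_e i)

/-- A non-root vector related to the frame with at most three coordinates. -/
def Small3 (H : Subgroup (O F 5)) : Prop := ∃ u, InV H u ∧ (supp u).card ≤ 3 ∧ ¬ Root u

/-- The vectors of the space with prescribed component outside the frame. -/
theorem Tr.exists_circle_vec {i k : Fin 5} {f : Fin 5 → F} (hT : Tr H i k f) (hp : 5 ≤ p)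
    (hcard : Nat.card F = p) (hU : Unip H p i k f) {t : F} (ht : t ≠ 0) (h1 : f ⬝ᵥ f * (t * t) ≠ 1)
    (hm1 : f ⬝ᵥ f * (t * t) ≠ -1) :
    ∃ y γ, InV H y ∧ γ ≠ 0 ∧ supp y = insert i (supp f) ∧ ∀ j, j ≠ i → y j = γ * f j := by
  obtain ⟨β, γ, hβ, hγ, heq⟩ := exists_circle ht hT.two h1 hm1
  refine ⟨β • e i + γ • f, γ, hT.unit_inV p hp hcard hU ⟨β, 0, γ, by module⟩ ?_, hγ, ?_, ?_⟩
  · simp [add_dotProduct, dotProduct_add, smul_dotProduct, dotProduct_smul, dot_e, e_dot, hT.fi, e_apply]
    linear_combination heq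
  · ext j
    rcases eq_or_ne j i with rfl | hj
    · simp [mem_supp, e_apply, hT.fi, hβ]
    · simp [mem_supp, e_apply, hj, hγ]
  · intro j hj
    simp [e_apply, hj]

/-- A square norm gives a multiple of the third vector. -/
theorem Tr.small_of_square {i k : Fin 5} {f : Fin 5 → F} (hT : Tr H i k f) (hp : 5 ≤ p)
    (hcard : Nat.card F = p) (hU : Unip H p i k f) (hsq : IsSquare (f ⬝ᵥ f))
    (hs : (supp f).card = 3) : Small3 H := by
  obtain ⟨r, hr⟩ := hsq
  have hr0 : r ≠ 0 := fun h => hT.ff (by rw [hr, h, mul_zero])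
  have hsy : supp (r⁻¹ • f) = supp f := supp_smul (inv_ne_zero hr0) f
  refine ⟨r⁻¹ • f, hT.unit_inV p hp hcard hU ⟨0, 0, r⁻¹, by module⟩ ?_, by rw [hsy, hs],
    not_root_of_three (by rw [hsy, hs])⟩
  rw [smul_dotProduct, dotProduct_smul, hr, smul_eq_mul, smul_eq_mul]
  field_simp

/-- Four coordinates, not all quarters. -/
theorem Over.small_of_four (hH : Over H) (hp : 5 ≤ p) (hcard : Nat.card F = p) {v : Fin 5 → F}
    (hv : InV H v) (hs : (supp v).card = 4) (hq : ¬ ∀ t ∈ supp v, 4 * (v t * v t) = 1) :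
    Small3 H := by
  classical
  obtain ⟨i, hi, k, hk, hik, hT, hU⟩ := hH.exists_pair p hp hcard hv (by omega) fun h => hq h.2
  -- the field has at least seven elements
  have h5 : (5 : F) ≠ 0 := by
    intro h5
    refine hq fun t ht => ?_
    have hpm : ∀ j ∈ supp v, v j * v j = 1 ∨ v j * v j = -1 := fun j hj =>
      mul_self_eq_one_iff.1 (fourth_power_five p hcard h5 (mem_supp.1 hj))
    set P := (supp v).filter fun j => v j * v j = 1
    have hsum : (1 : F) = (P.card : F) - ((supp v).card - P.card : ℕ) := by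
      have hsub : P ⊆ supp v := Finset.filter_subset _ _
      rw [← hv.1, sum_sq_supp, ← Finset.sum_sdiff hsub,
        Finset.sum_congr rfl (g := fun _ => (1 : F)) fun j hj => (Finset.mem_filter.1 hj).2,
        Finset.sum_congr (s₁ := supp v \ P) rfl (g := fun _ => (-1 : F)) fun j hj => by
          rw [Finset.mem_sdiff, Finset.mem_filter] at hj
          exact (hpm j hj.1).resolve_left fun e' => hj.2 ⟨hj.1, e'⟩,
        Finset.sum_const, Finset.sum_const, Finset.card_sdiff_of_subset hsub, nsmul_one, nsmul_eq_mul]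
      ring
    have hP4 : P.card ≤ 4 := hs ▸ Finset.card_filter_le _ _
    have hP0 : P.card = 0 := by
      rw [hs, Nat.cast_sub hP4] at hsum
      by_contra hne
      have h2P : ((2 * P.card : ℕ) : F) = 0 := by push_cast at hsum ⊢; linear_combination h5 - hsum
      rw [CharP.cast_eq_zero_iff F p] at h2P
      have hp5 : p = 5 := by
        have h' : ((5 : ℕ) : F) = 0 := by exact_mod_cast h5
        rw [CharP.cast_eq_zero_iff F p] at h'
        exact (Nat.prime_dvd_prime_iff_eq Fact.out Nat.prime_five).1 h'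
      subst hp5
      rcases (Nat.Prime.dvd_mul Nat.prime_five).1 h2P with h | h
      · omega
      · have := Nat.le_of_dvd (by omega) h
        omega
    have : v t * v t = -1 := (hpm t ht).resolve_left fun e' => by
      have : t ∈ P := Finset.mem_filter.2 ⟨ht, e'⟩
      rw [Finset.card_eq_zero.1 hP0] at this
      simp at this
    linear_combination 4 * this - h5
  have hp7 : 7 ≤ p := by
    by_contra h
    interval_cases p
    · exact h5 (by exact_mod_cast CharP.cast_eq_zero F 5)
    · exact absurd (Fact.out : Nat.Prime 6) (by decide)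
  have hsf : (supp (rest v i k)).card = 2 := by
    rw [supp_rest, Finset.card_erase_of_mem (Finset.mem_erase.2 ⟨hik.symm, hk⟩),
      Finset.card_erase_of_mem hi, hs]
  have hif : i ∉ supp (rest v i k) := by simp [mem_supp, rest]
  set G := rest v i k ⬝ᵥ rest v i k
  have n : ∀ m : ℕ, 0 < m → m < 7 → (m : F) ≠ 0 := fun m h0 h7 =>
    natCast_ne_zero_of_lt p h0 (by omega)
  have n2 : (2 : F) ≠ 0 := hH.two
  have n3 : (3 : F) ≠ 0 := by exact_mod_cast n 3 (by omega) (by omega)
  obtain ⟨t, ht, h1, hm1⟩ : ∃ t : F, t ≠ 0 ∧ G * (t * t) ≠ 1 ∧ G * (t * t) ≠ -1 := by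
    by_contra hall
    push Not at hall
    have c : ∀ t : F, t ≠ 0 → G * (t * t) = 1 ∨ G * (t * t) = -1 := fun t ht => by
      by_cases h : G * (t * t) = 1
      · exact Or.inl h
      · exact Or.inr (hall t ht h)
    rcases c 1 one_ne_zero with e1 | e1 <;> rcases c 2 n2 with e2 | e2 <;> rcases c 3 n3 with e3 | e3
    all_goals
      first
        | exact n3 (by linear_combination e2 - 4 * e1)
        | exact mul_ne_zero (mul_ne_zero n2 n2) n2 (by linear_combination e3 - 9 * e1)
        | exact h5 (by linear_combination -(4 * e3 - 9 * e2))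
        | exact h5 (by linear_combination 4 * e3 - 9 * e2)
        | exact n3 (by linear_combination -(e2 - 4 * e1))
        | exact mul_ne_zero (mul_ne_zero n2 n2) n2 (by linear_combination -(e3 - 9 * e1))
  obtain ⟨y, γ, hy, -, hsy, -⟩ := hT.exists_circle_vec p hp hcard hU ht h1 hm1
  have hcy : (supp y).card = 3 := by rw [hsy, Finset.card_insert_of_notMem hif, hsf]
  exact ⟨y, hy, by omega, not_root_of_three (by omega)⟩

/-- A parameter when the norm is not a square. -/
theorem exists_param {G : F} (hp : 5 ≤ p) (hsq : ¬ IsSquare G) :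
    ∃ t : F, t ≠ 0 ∧ G * (t * t) ≠ 1 ∧ G * (t * t) ≠ -1 := by
  have n2 : (2 : F) ≠ 0 := by exact_mod_cast natCast_ne_zero_of_lt (F := F) p (t := 2) (by omega) (by omega)
  have n3 : (3 : F) ≠ 0 := by exact_mod_cast natCast_ne_zero_of_lt (F := F) p (t := 3) (by omega) (by omega)
  have hno : ∀ t : F, t ≠ 0 → G * (t * t) ≠ 1 := fun t ht h =>
    hsq ⟨t⁻¹, by field_simp; linear_combination h⟩
  by_cases h : G * (1 * 1) = -1
  · refine ⟨2, n2, hno 2 n2, fun h' => n3 ?_⟩
    linear_combination -(h' - 4 * h)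
  · exact ⟨1, one_ne_zero, hno 1 one_ne_zero, h⟩

theorem Over.permutes_swap_one (hH : Over H) (a b : Fin 5) :
    ∃ σ, Permutes H σ ∧ σ a = b ∧ σ b = a := by
  obtain ⟨σ, h, h1, h2, -⟩ := hH.permutes_to (x := a) (y := b) ∅ (by simp) (by simp) (by simp)
  exact ⟨σ, h, h1, h2⟩

/-- Four quarters. -/
theorem Over.small_of_quarters (hH : Over H) (hp : 5 ≤ p) (hcard : Nat.card F = p) {v : Fin 5 → F}
    (hv : InV H v) (hs : (supp v).card = 4) (hq : ∀ t ∈ supp v, 4 * (v t * v t) = 1) : Small3 H := by
  classical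
  have n2 : (2 : F) ≠ 0 := hH.two
  have n3 : (3 : F) ≠ 0 := by exact_mod_cast natCast_ne_zero_of_lt (F := F) p (t := 3) (by omega) (by omega)
  obtain ⟨o, ho⟩ := Finset.card_eq_one.1 (show (supp v)ᶜ.card = 1 by
    rw [Finset.card_compl, Fintype.card_fin, hs])
  have hmem : ∀ t, t ∈ supp v ↔ t ≠ o := fun t => by
    have : t ∈ (supp v)ᶜ ↔ t = o := by rw [ho, Finset.mem_singleton]
    rw [Finset.mem_compl] at this
    tauto
  set w : Fin 5 → Fin 5 → F := fun c t => if t = c then 0 else 1 / 2 with hw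
  have hwV : ∀ c, InV H (w c) := by
    have hwo : InV H (w o) := by
      convert hH.inV_signs hv (Finset.univ.filter fun t => v t ≠ w o t) using 1
      funext t
      simp only [Finset.mem_filter, Finset.mem_univ, true_and]
      by_cases h : v t = w o t
      · rw [if_neg (not_not.2 h), h]
      rw [if_pos h]
      rcases eq_or_ne t o with rfl | hto
      · exact absurd (by rw [hw]; simp only [if_pos]; exact not_mem_supp.1 fun h' => (hmem t).1 h' rfl) h
      · have e1 : v t * v t = w o t * w o t := by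
          rw [hw]; simp only [if_neg hto]; field_simp
          linear_combination hq t ((hmem t).2 hto)
        rcases mul_self_eq_mul_self_iff.1 e1 with h' | h'
        · exact absurd h' h
        · rw [h', neg_neg]
    intro c
    obtain ⟨σ, hσ, h1, -⟩ := hH.permutes_swap_one c o
    convert hH.inV_perm hσ hwo using 1
    funext t
    simp [hw, ← h1, σ.injective.eq_iff]
  set d := (R (w 0) : O F 5).1 (w 1) with hd
  have hdV : InV H d := hH.inV_refl (hwV 1) (hwV 0)
  have hdot : w 1 ⬝ᵥ w 0 = 3 / 4 := by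
    have h4 : (4 : F) ≠ 0 := by rw [show (4 : F) = 2 * 2 by ring]; exact mul_ne_zero n2 n2
    simp [hw, dotProduct, Fin.sum_univ_succ]
    field_simp
    ring
  have hde : ∀ t, d t = if t = 0 then 1 / 2 else if t = 1 then -(3 / 4) else -(1 / 4) := by
    intro t
    have h4 : (4 : F) ≠ 0 := by rw [show (4 : F) = 2 * 2 by ring]; exact mul_ne_zero n2 n2
    rw [hd, R_apply, (hwV 0).1, hdot, div_one, Pi.sub_apply, Pi.smul_apply, smul_eq_mul, hw]
    rcases eq_or_ne t 0 with rfl | h0
    · simp
    rcases eq_or_ne t 1 with rfl | h1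
    · simp; field_simp
    · simp [h0, h1]; field_simp; ring
  have hdsupp : supp d = Finset.univ := by
    refine Finset.eq_univ_iff_forall.2 fun t => mem_supp.2 ?_
    rw [hde]
    have h4 : (4 : F) ≠ 0 := by rw [show (4 : F) = 2 * 2 by ring]; exact mul_ne_zero n2 n2
    split_ifs <;> simp [n2, n3, h4]
  have h4 : (4 : F) ≠ 0 := by rw [show (4 : F) = 2 * 2 by ring]; exact mul_ne_zero n2 n2
  have h8 : (8 : F) ≠ 0 := by rw [show (8 : F) = 2 * 4 by ring]; exact mul_ne_zero n2 h4
  set f := rest d 1 2 with hf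
  have hff : f ⬝ᵥ f = 3 / 8 := by
    rw [hf, rest_dot (by decide), hdV.1, hde, hde]
    simp
    field_simp
    ring
  have hT : Tr H 1 2 f := ⟨hH, by decide, by simp [hf, rest], by simp [hf, rest], by
    rw [hff]; exact div_ne_zero n3 h8⟩
  have hU : Unip H p 1 2 f := by
    rcases hT.dichotomy p (a := d 1) (b := d 2) (by rw [hf, rest_split (by decide)]; exact hdV)
      (mem_supp.1 (by rw [hdsupp]; simp)) (mem_supp.1 (by rw [hdsupp]; simp)) with
      ⟨h, hh, h1, h2⟩ | ⟨hA, hB, -⟩ | ⟨h5, hA, hB, -⟩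
    · exact ⟨h, hh, h1, h2⟩
    · exfalso
      rw [hde] at hA hB
      simp at hA hB
      rcases hA with hA | hA <;> rcases hB with hB | hB <;> field_simp at hA hB
      all_goals
        first
          | exact n3 (by linear_combination hB)
          | exact n3 (by linear_combination -hB)
          | exact one_ne_zero (show (1 : F) = 0 by linear_combination hA)
          | exact one_ne_zero (show (1 : F) = 0 by linear_combination -hA)
          | exact one_ne_zero (show (1 : F) = 0 by linear_combination 3 * hA + hB)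
          | exact n2 (by linear_combination hA)
          | exact mul_ne_zero h4 n3 (by linear_combination hB)
    · exfalso
      rw [hde] at hB
      simp at hB
      rcases hB with hB | hB <;> field_simp at hB
      all_goals
        first
          | exact n3 (by linear_combination hB)
          | exact n3 (by linear_combination -hB)
          | exact mul_ne_zero (mul_ne_zero h4 h4) h5 (by linear_combination hB)
  have hsf : (supp f).card = 3 := by
    rw [hf, supp_rest, hdsupp]; decide
  by_cases hsq : IsSquare (f ⬝ᵥ f)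
  · exact hT.small_of_square p hp hcard hU hsq hsf
  obtain ⟨t, ht, h1, hm1⟩ := exists_param p hp hsq
  obtain ⟨y, γ, hy, hγ, hsy, hyj⟩ := hT.exists_circle_vec p hp hcard hU ht h1 hm1
  refine hH.small_of_four p hp hcard hy (by
    rw [hsy, Finset.card_insert_of_notMem (by simp [mem_supp, hf, rest]), hsf]) fun hall => ?_
  have e0 := hall 0 (by rw [hsy, Finset.mem_insert]; right; rw [hf, supp_rest, hdsupp]; decide)
  have e3 := hall 3 (by rw [hsy, Finset.mem_insert]; right; rw [hf, supp_rest, hdsupp]; decide)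
  rw [hyj 0 (by decide)] at e0
  rw [hyj 3 (by decide)] at e3
  simp [hf, rest, hde] at e0 e3
  field_simp at e0 e3
  exact mul_ne_zero (mul_ne_zero n3 hγ) hγ (by linear_combination e0 - e3)

/-- From any non-root vector. -/
theorem Over.small_three (hH : Over H) (hp : 5 ≤ p) (hcard : Nat.card F = p) {v : Fin 5 → F}
    (hv : InV H v) (hnr : ¬ Root v) : Small3 H := by
  classical
  have four : ∀ {u}, InV H u → (supp u).card = 4 → Small3 H := fun {u} hu hs => by
    by_cases hq : ∀ t ∈ supp u, 4 * (u t * u t) = 1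
    · exact hH.small_of_quarters p hp hcard hu hs hq
    · exact hH.small_of_four p hp hcard hu hs hq
  have hle : (supp v).card ≤ 5 := by simpa using Finset.card_le_univ (supp v)
  rcases (show (supp v).card ≤ 3 ∨ (supp v).card = 4 ∨ (supp v).card = 5 by omega) with h | h | h
  · exact ⟨v, hv, h, hnr⟩
  · exact four hv h
  obtain ⟨i, hi, k, hk, hik, hT, hU⟩ := hH.exists_pair p hp hcard hv (by omega) fun h' => by omega
  have hsf : (supp (rest v i k)).card = 3 := by
    rw [supp_rest, Finset.card_erase_of_mem (Finset.mem_erase.2 ⟨hik.symm, hk⟩),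
      Finset.card_erase_of_mem hi, h]
  by_cases hsq : IsSquare (rest v i k ⬝ᵥ rest v i k)
  · exact hT.small_of_square p hp hcard hU hsq hsf
  obtain ⟨t, ht, h1, hm1⟩ := exists_param p hp hsq
  obtain ⟨y, γ, hy, -, hsy, -⟩ := hT.exists_circle_vec p hp hcard hU ht h1 hm1
  exact four hy (by rw [hsy, Finset.card_insert_of_notMem (by simp [mem_supp, rest]), hsf])

end CfsgLib.Geo.OFrame
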