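import Cfsg.Agent.Geo.FrameFive.Tr

/-!
The stabiliser on a space spanned by two frame vectors and a third one: either it induces an element of
order `p`, or the coordinates of a related vector in it take special values.
-/

set_option autoImplicit false
set_option linter.unusedSectionVars false

namespace CfsgLib.Geo.OFrame

open QuadraticMap CfsgLib.Forms CfsgLib.Quad Matrix

theorem perm_four_orders : ∀ a : Equiv.Perm (Fin 4),
    a * a = 1 ∨ a * a * a = 1 ∨ a * a * a * a = 1 := by decide +kernel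

theorem perm_five_orders : ∀ a : Equiv.Perm (Fin 5), Equiv.Perm.sign a = 1 →
    a * a = 1 ∨ a * a * a = 1 ∨ a * a * a * a * a = 1 := by decide +kernel

theorem alt_four_involutions : ∀ a b : Equiv.Perm (Fin 4), Equiv.Perm.sign a = 1 →
    Equiv.Perm.sign b = 1 → a * a = 1 → b * b = 1 → a * b = b * a := by decide +kernel

theorem rotation_central {n : ℕ} {i : ZMod n} (w : DihedralGroup n)
    (h : DihedralGroup.r i * DihedralGroup.r i = 1) :
    w * DihedralGroup.r i = DihedralGroup.r i * w := by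
  rw [DihedralGroup.r_mul_r, ← DihedralGroup.r_zero] at h
  have h' : i + i = 0 := DihedralGroup.r.inj h
  cases w with
  | r j => simp only [DihedralGroup.r_mul_r]; rw [add_comm]
  | sr j =>
    simp only [DihedralGroup.sr_mul_r, DihedralGroup.r_mul_sr]
    congr 1
    linear_combination h'

/-- An element commutes with one of three commuting involutions. -/
theorem dihedral_klein {n : ℕ} (a b w : DihedralGroup n) (ha : a * a = 1) (hb : b * b = 1)
    (hab : a * b = b * a) : w * a = a * w ∨ w * b = b * w ∨ w * (a * b) = a * b * w := by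
  cases a with
  | r i => exact Or.inl (rotation_central w ha)
  | sr i =>
    cases b with
    | r j => exact Or.inr (Or.inl (rotation_central w hb))
    | sr j =>
      refine Or.inr (Or.inr ?_)
      have h2 : DihedralGroup.sr i * DihedralGroup.sr j * (DihedralGroup.sr i * DihedralGroup.sr j) = 1 := by
        nth_rewrite 2 [hab]
        rw [mul_assoc, ← mul_assoc (DihedralGroup.sr j), hb, one_mul, ha]
      rw [DihedralGroup.sr_mul_sr] at h2 ⊢
      exact rotation_central w h2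

/-- Values allowed by the symmetric group of degree four. -/
def OctVal {F : Type*} [Field F] (X : F) : Prop := 4 * X = 1 ∨ 2 * X = 1

/-- Values allowed by the alternating group of degree five. -/
def IcoVal {F : Type*} [Field F] (X : F) : Prop := 4 * X = 1 ∨ 16 * X * X - 12 * X + 1 = 0

variable {F : Type*} [Field F] [Finite F] [DecidableEq F] {n : ℕ} {H : Subgroup (O F n)}
variable {i k : Fin n} {f : Fin n → F}

namespace Tr

section model

variable {K : Type*} [Field K] (φ : F →+* K) (I s : K)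

/-- A matrix lifting to an element of the fixing group. -/
def Lifts (H : Subgroup (O F n)) (i k : Fin n) (f : Fin n → F) (G : Matrix (Fin 2) (Fin 2) K)
    (g : O F n) (σ : K) : Prop :=
  g ∈ Fix H i k f ∧ σ * σ = 1 ∧
    ∀ y, InY i k f y → G * Tri.mat φ I s i k f y = σ • (Tri.mat φ I s i k f (g.1 y) * G)

theorem Lifts.mul (hT : Tr H i k f) {G G' : Matrix (Fin 2) (Fin 2) K} {g g' : O F n} {σ σ' : K}
    (h : Lifts φ I s H i k f G g σ) (h' : Lifts φ I s H i k f G' g' σ') :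
    Lifts φ I s H i k f (G * G') (g * g') (σ * σ') := by
  refine ⟨mul_mem h.1 h'.1, by linear_combination (σ' * σ') * h.2.1 + h'.2.1, fun y hy => ?_⟩
  rw [mul_apply, Matrix.mul_assoc, h'.2.2 y hy, Matrix.mul_smul, ← Matrix.mul_assoc,
    h.2.2 _ (hT.fix_inY h'.1 hy), Matrix.smul_mul, smul_smul, Matrix.mul_assoc, mul_comm σ' σ]

theorem lifts_inv (hT : Tr H i k f) {G : GL (Fin 2) K} {g : O F n} {σ : K}
    (hG : Lifts φ I s H i k f (G : Matrix (Fin 2) (Fin 2) K) g σ) :
    Lifts φ I s H i k f ((G⁻¹ : GL (Fin 2) K) : Matrix (Fin 2) (Fin 2) K) g⁻¹ σ := by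
  obtain ⟨hg, hσ, h⟩ := hG
  refine ⟨inv_mem hg, hσ, fun y hy => ?_⟩
  have hy' := hT.fix_inY (inv_mem hg) hy
  have h1 := h _ hy'
  rw [← mul_apply, mul_inv_cancel, one_apply] at h1
  have h2 : Tri.mat φ I s i k f y * (G : Matrix (Fin 2) (Fin 2) K) =
      σ • ((G : Matrix (Fin 2) (Fin 2) K) * Tri.mat φ I s i k f ((g⁻¹).1 y)) := by
    rw [h1, smul_smul, hσ, one_smul]
  calc ((G⁻¹ : GL (Fin 2) K) : Matrix (Fin 2) (Fin 2) K) * Tri.mat φ I s i k f y
      = ((G⁻¹ : GL (Fin 2) K) : Matrix (Fin 2) (Fin 2) K) *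
          (Tri.mat φ I s i k f y * (G : Matrix (Fin 2) (Fin 2) K)) *
          ((G⁻¹ : GL (Fin 2) K) : Matrix (Fin 2) (Fin 2) K) := by
        rw [Matrix.mul_assoc, Matrix.mul_assoc (Tri.mat φ I s i k f y), ← Units.val_mul, mul_inv_cancel,
          Units.val_one, Matrix.mul_one]
    _ = _ := by
        rw [h2, Matrix.mul_smul, Matrix.smul_mul, ← Matrix.mul_assoc
          ((G⁻¹ : GL (Fin 2) K) : Matrix (Fin 2) (Fin 2) K), ← Units.val_mul, inv_mul_cancel,
          Units.val_one, Matrix.one_mul]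

/-- The group of liftable invertible matrices. -/
def liftGroup (hT : Tr H i k f) : Subgroup (GL (Fin 2) K) where
  carrier := {G | ∃ g σ, Lifts φ I s H i k f (G : Matrix (Fin 2) (Fin 2) K) g σ}
  one_mem' := ⟨1, 1, one_mem _, one_mul 1, fun y _ => by simp [one_apply]⟩
  mul_mem' := fun {G G'} ⟨g, σ, h⟩ ⟨g', σ', h'⟩ => ⟨g * g', σ * σ', by
    simpa using Lifts.mul φ I s hT h h'⟩
  inv_mem' := fun {G} ⟨g, σ, h⟩ => ⟨g⁻¹, σ, lifts_inv φ I s hT h⟩

theorem finite_lift (hT : Tr H i k f) :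
    Finite ((liftGroup φ I s hT).map (Matrix.ProjGenLinGroup.mk (n := Fin 2) (R := K))) := by
  classical
  have hL : ∀ x : (liftGroup φ I s hT).map (Matrix.ProjGenLinGroup.mk (n := Fin 2) (R := K)),
      ∃ (G : GL (Fin 2) K) (g : O F n) (σ : K),
        Lifts φ I s H i k f (G : Matrix (Fin 2) (Fin 2) K) g σ ∧ Matrix.ProjGenLinGroup.mk G = x.1 := by
    rintro ⟨_, G, ⟨g, σ, h⟩, rfl⟩
    exact ⟨G, g, σ, h, rfl⟩
  choose G g σ hG hmk using hL
  refine Finite.of_injective (fun x => (g x, decide (σ x = 1))) fun x y hxy => ?_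
  simp only [Prod.mk.injEq, decide_eq_decide] at hxy
  have hσ : σ x = σ y := by
    rcases mul_self_eq_one_iff.1 (hG x).2.1 with h | h
    · rw [h, hxy.2.1 h]
    · rcases mul_self_eq_one_iff.1 (hG y).2.1 with h' | h'
      · rw [hxy.2.2 h', h']
      · rw [h, h']
  refine Subtype.ext ?_
  rw [← hmk x, ← hmk y, ← mul_inv_eq_one, ← map_inv, ← map_mul]
  refine hT.central_of_commute φ I s fun v hv => ?_
  have h := (Lifts.mul φ I s hT (hG x) (lifts_inv φ I s hT (hG y))).2.2 v hv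
  rw [hxy.1, mul_inv_cancel, one_apply, hσ, (hG y).2.1, one_smul] at h
  rwa [Units.val_mul]

end model

/-- The coefficient of a matrix in its scalar power vanishes. -/
theorem coeff_zero {K : Type*} [Field K] {M : Matrix (Fin 2) (Fin 2) K}
    (hns : ∀ c : K, M ≠ c • (1 : Matrix (Fin 2) (Fin 2) K)) {c d e : K}
    (h : c • M + d • (1 : Matrix (Fin 2) (Fin 2) K) = e • 1) : c = 0 := by
  by_contra hc
  refine hns ((e - d) / c) ?_
  calc M = c⁻¹ • (c • M) := by rw [smul_smul, inv_mul_cancel₀ hc, one_smul]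
    _ = _ := by rw [eq_sub_of_add_eq h, ← sub_smul, smul_smul, inv_mul_eq_div]

theorem pow_values {K : Type*} [Field K] {M : Matrix (Fin 2) (Fin 2) K}
    (hns : ∀ c : K, M ≠ c • (1 : Matrix (Fin 2) (Fin 2) K)) {α X : K}
    (hsq : M * M = (2 * α) • M - X • 1) :
    ((∃ c : K, M * M * M = c • 1) → 4 * (α * α) = X) ∧
    ((∃ c : K, M * M * M * M = c • 1) → α * (2 * (α * α) - X) = 0 ∨ (2 : K) = 0) ∧
    ((∃ c : K, M * M * M * M * M = c • 1) →
      16 * (α * α) * (α * α) - 12 * X * (α * α) + X * X = 0) := by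
  have h3 : M * M * M = (4 * α * α - X) • M - (2 * α * X) • (1 : Matrix (Fin 2) (Fin 2) K) := by
    rw [hsq, sub_mul, smul_mul_assoc, hsq, smul_mul_assoc, one_mul]
    module
  have h4 : M * M * M * M = (4 * α * (2 * (α * α) - X)) • M -
      ((4 * α * α - X) * X) • (1 : Matrix (Fin 2) (Fin 2) K) := by
    rw [h3, sub_mul, smul_mul_assoc, hsq, smul_mul_assoc, one_mul]
    module
  have h5 : M * M * M * M * M = (16 * (α * α) * (α * α) - 12 * X * (α * α) + X * X) • M -
      (4 * α * (2 * (α * α) - X) * X) • (1 : Matrix (Fin 2) (Fin 2) K) := by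
    rw [h4, sub_mul, smul_mul_assoc, hsq, smul_mul_assoc, one_mul]
    module
  refine ⟨?_, ?_, ?_⟩ <;> rintro ⟨c, hc⟩
  · rw [h3, sub_eq_add_neg, ← neg_smul] at hc
    linear_combination coeff_zero hns hc
  · rw [h4, sub_eq_add_neg, ← neg_smul] at hc
    by_cases h2 : (2 : K) = 0
    · exact Or.inr h2
    refine Or.inl ((mul_eq_zero.1 (show (2 * 2 : K) * (α * (2 * (α * α) - X)) = 0 by
      linear_combination coeff_zero hns hc)).resolve_left (mul_ne_zero h2 h2))
  · rw [h5, sub_eq_add_neg, ← neg_smul] at hc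
    exact coeff_zero hns hc

variable (hT : Tr H i k f)
include hT

set_option maxHeartbeats 1000000 in
/-- The dichotomy. -/
theorem dichotomy (p : ℕ) [Fact p.Prime] [CharP F p] {a b : F}
    (hv : InV H (a • e i + b • e k + f)) (ha : a ≠ 0) (hb : b ≠ 0) :
    (∃ h ∈ Fix H i k f, (∀ y, InY i k f y → (h ^ p).1 y = y) ∧ ∃ y, InY i k f y ∧ h.1 y ≠ y) ∨
      (OctVal (a * a) ∧ OctVal (b * b) ∧ OctVal (f ⬝ᵥ f)) ∨
      ((5 : F) ≠ 0 ∧ IcoVal (a * a) ∧ IcoVal (b * b) ∧ IcoVal (f ⬝ᵥ f)) := by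
  classical
  let K := AlgebraicClosure F
  let φ : F →+* K := algebraMap F K
  have : CharP K p := (φ.charP_iff φ.injective p).1 inferInstance
  have h2 : (2 : K) ≠ 0 := fun h0 => hT.two ((map_eq_zero φ).1 (by rw [map_ofNat]; exact h0))
  obtain ⟨I, hI'⟩ := IsAlgClosed.exists_eq_mul_self (-1 : K)
  obtain ⟨s, hs'⟩ := IsAlgClosed.exists_eq_mul_self (φ (f ⬝ᵥ f))⁻¹
  have hI : I * I = -1 := hI'.symm
  have hff : φ (f ⬝ᵥ f) ≠ 0 := (map_ne_zero φ).2 hT.ff
  have hs : s * s * φ (f ⬝ᵥ f) = 1 := by rw [← hs', inv_mul_cancel₀ hff]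
  set v : Fin n → F := a • e i + b • e k + f with hv'
  have hvY : InY i k f v := ⟨a, b, 1, by rw [one_smul]⟩
  have hlift : ∀ {u : Fin n → F}, InY i k f u → u ⬝ᵥ u ≠ 0 → InV H u →
      ∀ G : GL (Fin 2) K, (G : Matrix (Fin 2) (Fin 2) K) = Tri.mat φ I s i k f u →
        (G : Matrix (Fin 2) (Fin 2) K) * G = φ (u ⬝ᵥ u) • 1 →
        G ∈ liftGroup φ I s hT := by
    intro u hu huu huV G hG hGG
    refine ⟨R u, -1, hT.refl_fix hu huV, by ring, fun y hy => ?_⟩
    have hac := hT.anticomm φ I s hI hs hu hy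
    rw [← hG] at hac
    rw [R_apply, Tri.mat_sub_smul, ← hG, Matrix.sub_mul, Matrix.smul_mul, hGG, smul_smul,
      ← map_mul, div_mul_cancel₀ _ huu, map_mul, map_ofNat, dotProduct_comm y u, ← hac, neg_one_smul]
    abel
  obtain ⟨Gi, hGi, hGi2⟩ := hT.exists_mat_unit φ hI hs hT.inY_e_i (by rw [ee]; exact one_ne_zero)
  obtain ⟨Gk, hGk, hGk2⟩ := hT.exists_mat_unit φ hI hs hT.inY_e_k (by rw [ee]; exact one_ne_zero)
  obtain ⟨Gv, hGv, hGv2⟩ := hT.exists_mat_unit φ hI hs hvY (by rw [hv.1]; exact one_ne_zero)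
  obtain ⟨Gf, hGf, hGf2⟩ := hT.exists_mat_unit φ hI hs hT.inY_f hT.ff
  rw [hv.1, map_one, one_smul] at hGv2
  set L := (liftGroup φ I s hT).map (Matrix.ProjGenLinGroup.mk (n := Fin 2) (R := K)) with hLdef
  have hfin : Finite L := finite_lift φ I s hT
  by_cases hp : p ∣ Nat.card L
  · left
    obtain ⟨x, hx⟩ := exists_prime_orderOf_dvd_card' p hp
    obtain ⟨G, hG, hGx⟩ := x.2
    obtain ⟨g, σ, hGg⟩ := hG
    have hσ := hGg.2.1
    have hL2 : Lifts φ I s H i k f ((G * G : GL (Fin 2) K) : Matrix (Fin 2) (Fin 2) K) (g * g)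
        (σ * σ) := by
      simpa using Lifts.mul φ I s hT hGg hGg
    have hord : orderOf (Matrix.ProjGenLinGroup.mk G) = p := by rw [hGx, Subgroup.orderOf_coe, hx]
    refine ⟨g * g, hL2.1, fun y hy => ?_, ?_⟩
    · have hpow : ∀ t : ℕ, Lifts φ I s H i k f
          (((G * G) ^ t : GL (Fin 2) K) : Matrix (Fin 2) (Fin 2) K) ((g * g) ^ t) 1 := by
        intro t
        induction t with
        | zero => exact ⟨one_mem _, one_mul 1, fun y _ => by simp [one_apply]⟩
        | succ t ih =>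
          have := Lifts.mul φ I s hT ih hL2
          rw [hσ, one_mul] at this
          simpa [pow_succ] using this
      have h1 := (hpow p).2.2 y hy
      have hc : (G * G) ^ p ∈ Subgroup.center (GL (Fin 2) K) := by
        rw [← Matrix.ProjGenLinGroup.mk_eq_one, map_pow, map_mul, ← pow_two, pow_right_comm, ← hord,
          pow_orderOf_eq_one, one_pow]
      rw [Matrix.GeneralLinearGroup.center_eq_range_scalar] at hc
      obtain ⟨c, hc⟩ := hc
      rw [← hc, Matrix.GeneralLinearGroup.coe_scalar, one_smul] at h1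
      refine (hT.mat_inj φ I s hI hs hy (hT.fix_inY (hpow p).1 hy) ?_).symm
      ext r t
      have := congrFun (congrFun h1 r) t
      simp [Matrix.scalar_apply, Matrix.diagonal_mul, Matrix.mul_diagonal] at this
      exact mul_left_cancel₀ c.ne_zero (this.trans (mul_comm _ _))
    · by_contra hall
      push Not at hall
      have h1 : Matrix.ProjGenLinGroup.mk (G * G) = 1 := hT.central_of_commute φ I s fun y hy => by
        rw [hL2.2.2 y hy, hall y hy, hσ, one_smul]
      rw [map_mul, ← pow_two, ← orderOf_dvd_iff_pow_eq_one, hord] at h1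
      have hle := Nat.le_of_dvd (by norm_num) h1
      have h2' := (Fact.out : p.Prime).two_le
      have hp22 : p = 2 := by omega
      subst hp22
      exact hT.two (by rw [← Nat.cast_two, CharP.cast_eq_zero F 2])
  right
  have hLi : Gi ∈ liftGroup φ I s hT := hlift hT.inY_e_i (by rw [ee]; exact one_ne_zero)
    (hT.inV_e i) Gi hGi hGi2
  have hLk : Gk ∈ liftGroup φ I s hT := hlift hT.inY_e_k (by rw [ee]; exact one_ne_zero)
    (hT.inV_e k) Gk hGk hGk2
  have hLv : Gv ∈ liftGroup φ I s hT := hlift hvY (by rw [hv.1]; exact one_ne_zero)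
    hv Gv hGv (by rw [hGv2, hv.1, map_one, one_smul])
  let x₁ : CfsgLib.Dickson.PGL2 K := Matrix.ProjGenLinGroup.mk Gi
  let x₂ : CfsgLib.Dickson.PGL2 K := Matrix.ProjGenLinGroup.mk Gk
  let x₃ : CfsgLib.Dickson.PGL2 K := Matrix.ProjGenLinGroup.mk Gf
  let w : CfsgLib.Dickson.PGL2 K := Matrix.ProjGenLinGroup.mk Gv
  have hfp : I * s * φ (f ⬝ᵥ f) ≠ 0 := fun h0 => by
    have : (I * I) * (s * s * φ (f ⬝ᵥ f)) * φ (f ⬝ᵥ f) = 0 := by
      linear_combination (I * s * φ (f ⬝ᵥ f)) * h0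
    rw [hI, hs] at this
    simp [hff] at this
  have h12 : x₁ * x₂ = x₃ := by
    rw [← map_mul]
    refine (mk_eq_of_smul (c := I * s * φ (f ⬝ᵥ f)) ?_)
    rw [Units.val_mul, hGi, hGk, hGf]
    ext x y
    fin_cases x <;> fin_cases y <;>
      (simp [Tri.mat, Matrix.mul_apply, e_apply, e_dot, hT.ik, hT.ik.symm, hT.fi, hT.fk, mul_neg]) <;>
      ring
  have h21 : x₂ * x₁ = x₁ * x₂ := by
    rw [← map_mul, ← map_mul]
    refine mk_eq_of_smul (c := -1) ?_
    rw [Units.val_mul, Units.val_mul, hGi, hGk]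
    ext x y
    fin_cases x <;> fin_cases y <;>
      (simp [Tri.mat, Matrix.mul_apply, e_apply, e_dot, hT.ik, hT.ik.symm, hT.fi, hT.fk, mul_neg]) <;>
      ring
  have hinvol : ∀ {G : GL (Fin 2) K} {c : K}, c ≠ 0 →
      (G : Matrix (Fin 2) (Fin 2) K) * G = c • 1 →
      Matrix.ProjGenLinGroup.mk G * Matrix.ProjGenLinGroup.mk G = 1 := fun {G c} hc hG => by
    rw [← map_mul, Matrix.ProjGenLinGroup.mk_eq_one, Matrix.GeneralLinearGroup.center_eq_range_scalar]
    refine ⟨Units.mk0 c hc, Units.ext ?_⟩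
    rw [Units.val_mul, hG]
    ext x y
    fin_cases x <;> fin_cases y <;> simp [Matrix.GeneralLinearGroup.coe_scalar]
  have hx1 : x₁ * x₁ = 1 := hinvol ((map_ne_zero φ).2 (by rw [ee]; exact one_ne_zero)) hGi2
  have hx2 : x₂ * x₂ = 1 := hinvol ((map_ne_zero φ).2 (by rw [ee]; exact one_ne_zero)) hGk2
  have hx3 : x₃ * x₃ = 1 := hinvol hff hGf2
  have hw : w * w = 1 := hinvol one_ne_zero (by rw [hGv2, one_smul])
  -- the products of the vector with the three
  set A := a * a with hA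
  set B := b * b with hB
  set Fn := f ⬝ᵥ f with hFn
  have hscal : ∀ (G : GL (Fin 2) K), Matrix.ProjGenLinGroup.mk G = 1 →
      ∃ c : K, (G : Matrix (Fin 2) (Fin 2) K) = c • 1 := fun G hG => by
    rw [Matrix.ProjGenLinGroup.mk_eq_one, Matrix.GeneralLinearGroup.center_eq_range_scalar] at hG
    obtain ⟨c, rfl⟩ := hG
    exact ⟨c, by ext x y; fin_cases x <;> fin_cases y <;> simp [Matrix.GeneralLinearGroup.coe_scalar]⟩
  have hprod : ∀ {u : Fin n → F} {G : GL (Fin 2) K}, InY i k f u → u ⬝ᵥ u ≠ 0 → v ⬝ᵥ u ≠ 0 →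
      (G : Matrix (Fin 2) (Fin 2) K) = Tri.mat φ I s i k f u →
      (G : Matrix (Fin 2) (Fin 2) K) * G = φ (u ⬝ᵥ u) • 1 →
      (∀ c : K, Tri.mat φ I s i k f u ≠ c • Tri.mat φ I s i k f v) →
      w * Matrix.ProjGenLinGroup.mk G ≠ Matrix.ProjGenLinGroup.mk G * w ∧
      (w * Matrix.ProjGenLinGroup.mk G * (w * Matrix.ProjGenLinGroup.mk G) *
          (w * Matrix.ProjGenLinGroup.mk G) = 1 →
        4 * (v ⬝ᵥ u * (v ⬝ᵥ u)) = u ⬝ᵥ u) ∧
      (w * Matrix.ProjGenLinGroup.mk G * (w * Matrix.ProjGenLinGroup.mk G) *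
          (w * Matrix.ProjGenLinGroup.mk G) * (w * Matrix.ProjGenLinGroup.mk G) = 1 →
        2 * (v ⬝ᵥ u * (v ⬝ᵥ u)) = u ⬝ᵥ u) ∧
      (w * Matrix.ProjGenLinGroup.mk G * (w * Matrix.ProjGenLinGroup.mk G) *
          (w * Matrix.ProjGenLinGroup.mk G) * (w * Matrix.ProjGenLinGroup.mk G) *
          (w * Matrix.ProjGenLinGroup.mk G) = 1 →
        16 * (v ⬝ᵥ u * (v ⬝ᵥ u)) * (v ⬝ᵥ u * (v ⬝ᵥ u)) - 12 * (u ⬝ᵥ u) * (v ⬝ᵥ u * (v ⬝ᵥ u)) +
          u ⬝ᵥ u * (u ⬝ᵥ u) = 0) := by
    intro u G hu huu hvu hG hGG hpar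
    set α := φ (v ⬝ᵥ u) with hα
    set X := φ (u ⬝ᵥ u) with hX
    set M := ((Gv * G : GL (Fin 2) K) : Matrix (Fin 2) (Fin 2) K) with hM
    have hMv : M = (Gv : Matrix (Fin 2) (Fin 2) K) * G := Units.val_mul _ _
    have hac : M + (G : Matrix (Fin 2) (Fin 2) K) * Gv = (2 * α) • 1 := by
      rw [hMv, hGv, hG]; exact hT.anticomm φ I s hI hs hvY hu
    have hns : ∀ c : K, M ≠ c • (1 : Matrix (Fin 2) (Fin 2) K) := fun c h => hpar c (by
      have h1 := congrArg ((Gv : Matrix (Fin 2) (Fin 2) K) * ·) h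
      simp only [hMv, ← Matrix.mul_assoc, hGv2, Matrix.one_mul, Matrix.mul_smul, Matrix.mul_one] at h1
      rw [← hG, ← hGv, h1])
    have hsq : M * M = (2 * α) • M - X • 1 := by
      calc M * M = (Gv : Matrix (Fin 2) (Fin 2) K) * ((G : Matrix (Fin 2) (Fin 2) K) * Gv) * G := by
            rw [hMv]; simp only [Matrix.mul_assoc]
        _ = (Gv : Matrix (Fin 2) (Fin 2) K) * ((2 * α) • 1 - M) * G := by
            rw [eq_sub_of_add_eq' hac]
        _ = _ := by
            rw [hMv, Matrix.mul_sub, Matrix.sub_mul, Matrix.mul_smul, Matrix.mul_one, Matrix.smul_mul,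
              ← Matrix.mul_assoc (Gv : Matrix (Fin 2) (Fin 2) K) (Gv : Matrix (Fin 2) (Fin 2) K) (G : Matrix (Fin 2) (Fin 2) K), hGv2, Matrix.one_mul, hGG]
    have hmkM : w * Matrix.ProjGenLinGroup.mk G = Matrix.ProjGenLinGroup.mk (Gv * G) :=
      (map_mul _ _ _).symm
    obtain ⟨p3, p4, p5⟩ := pow_values hns hsq
    refine ⟨fun hcomm => ?_, fun h => ?_, fun h => ?_, fun h => ?_⟩
    · rw [← map_mul, ← map_mul, Matrix.ProjGenLinGroup.mk_eq_mk_iff] at hcomm
      obtain ⟨c, hc⟩ := hcomm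
      have hc' : ((G : Matrix (Fin 2) (Fin 2) K) * Gv) = (c : K) • M := by
        rw [← Units.val_mul, ← hc, Units.val_mul, hM]
        ext x y
        simp [Matrix.GeneralLinearGroup.coe_scalar, mul_comm]
      rw [hc', show M + (c : K) • M = (1 + (c : K)) • M by rw [add_smul, one_smul]] at hac
      by_cases hc1 : 1 + (c : K) = 0
      · rw [hc1, zero_smul] at hac
        exact mul_ne_zero h2 ((map_ne_zero φ).2 hvu) (smul_eq_zero.1 hac.symm |>.resolve_right one_ne_zero)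
      · refine hns (2 * α / (1 + (c : K))) ?_
        calc M = (1 + (c : K))⁻¹ • ((1 + (c : K)) • M) := by
              rw [smul_smul, inv_mul_cancel₀ hc1, one_smul]
          _ = _ := by rw [hac, smul_smul, inv_mul_eq_div]
    · simp only [hmkM, ← map_mul] at h
      obtain ⟨c, hc⟩ := hscal _ h
      have := p3 ⟨c, by rw [← hc]; simp only [hM, Units.val_mul]⟩
      exact φ.injective (by rw [map_mul, map_mul, map_ofNat]; exact this)
    · simp only [hmkM, ← map_mul] at h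
      obtain ⟨c, hc⟩ := hscal _ h
      have h' := ((p4 ⟨c, by rw [← hc]; simp only [hM, Units.val_mul]⟩).resolve_right h2)
      have h'' := (mul_eq_zero.1 h').resolve_left ((map_ne_zero φ).2 hvu)
      exact φ.injective (by rw [map_mul, map_mul, map_ofNat]; linear_combination h'')
    · simp only [hmkM, ← map_mul] at h
      obtain ⟨c, hc⟩ := hscal _ h
      have h' := p5 ⟨c, by rw [← hc]; simp only [hM, Units.val_mul]⟩
      exact φ.injective (by simp only [map_mul, map_add, map_sub, map_ofNat, map_zero]; exact h')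
  have hvi : v ⬝ᵥ e i = a := by rw [dot_e, hv']; simp [e_apply, hT.ik, hT.fi]
  have hvk : v ⬝ᵥ e k = b := by rw [dot_e, hv']; simp [e_apply, hT.ik.symm, hT.fk]
  have hvf : v ⬝ᵥ f = Fn := by
    rw [hv', add_dotProduct, add_dotProduct, smul_dotProduct, smul_dotProduct, e_dot, e_dot, hT.fi,
      hT.fk]
    simp [hFn]
  obtain ⟨ni, ti3, ti4, ti5⟩ := hprod hT.inY_e_i (by rw [ee]; exact one_ne_zero) (by rw [hvi]; exact ha)
    hGi hGi2 (fun c h => by
      have h01 := congrFun (congrFun h 0) 1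
      have h10 := congrFun (congrFun h 1) 0
      have h00 := congrFun (congrFun h 0) 0
      simp [Tri.mat, hv', e_apply, e_dot, hT.ik, hT.ik.symm, hT.fi, hT.fk, add_dotProduct,
        smul_dotProduct] at h01 h10 h00
      have hc : c ≠ 0 := fun h0 => by simp [h0] at h00
      exact (map_ne_zero φ).2 hb ((mul_eq_zero.1
        (show (2 * c) * φ b = 0 by
          linear_combination c * h01.resolve_left hc + c * h10.resolve_left hc)).resolve_left (mul_ne_zero h2 hc)))
  obtain ⟨nk, tk3, tk4, tk5⟩ := hprod hT.inY_e_k (by rw [ee]; exact one_ne_zero) (by rw [hvk]; exact hb)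
    hGk hGk2 (fun c h => by
      have h00 := congrFun (congrFun h 0) 0
      have h01 := congrFun (congrFun h 0) 1
      simp [Tri.mat, hv', e_apply, e_dot, hT.ik, hT.ik.symm, hT.fi, hT.fk, add_dotProduct,
        smul_dotProduct] at h00 h01
      have hc : c = 0 := h00.resolve_right ha
      simp [hc] at h01)
  obtain ⟨nf, tf3, tf4, tf5⟩ := hprod hT.inY_f hT.ff (by rw [hvf]; exact hT.ff)
    hGf hGf2 (fun c h => by
      have h00 := congrFun (congrFun h 0) 0
      have h01 := congrFun (congrFun h 0) 1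
      simp [Tri.mat, hv', e_apply, e_dot, hT.ik, hT.ik.symm, hT.fi, hT.fk, add_dotProduct,
        smul_dotProduct] at h00 h01
      have hc : c = 0 := h00.resolve_right ha
      simp [hc] at h01
      rcases h01 with (h1 | h1) | h1 <;> exact hfp (by simp [hFn, h1]))
  rw [hvi, ee, ← hA] at ti3 ti4 ti5
  rw [hvk, ee, ← hB] at tk3 tk4 tk5
  rw [hvf, ← hFn] at tf3 tf4 tf5
  have hF3 : 4 * Fn * Fn = Fn → 4 * Fn = 1 := fun h =>
    mul_right_cancel₀ hT.ff (h.trans (one_mul Fn).symm)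
  have hF4 : 2 * Fn * Fn = Fn → 2 * Fn = 1 := fun h =>
    mul_right_cancel₀ hT.ff (h.trans (one_mul Fn).symm)
  have hx1L : x₁ ∈ L := ⟨_, hLi, rfl⟩
  have hx2L : x₂ ∈ L := ⟨_, hLk, rfl⟩
  have hx3L : x₃ ∈ L := h12 ▸ mul_mem hx1L hx2L
  have hwL : w ∈ L := ⟨_, hLv, rfl⟩
  have noSq : ∀ {x : CfsgLib.Dickson.PGL2 K}, x * x = 1 → w * x * (w * x) = 1 → w * x = x * w :=
    fun {x} hx h => by
      rw [eq_inv_of_mul_eq_one_left h, _root_.mul_inv_rev, inv_eq_of_mul_eq_one_right hx,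
        inv_eq_of_mul_eq_one_right hw]
  rcases CfsgLib.Dickson.tame L (CfsgLib.Dickson.unipotents_empty p L hp) with
    ⟨x, y, hxy, hfix⟩ | ⟨x, y, hxy, hpres, hswap, -⟩ | ⟨hN, x, -, hst⟩ | ⟨hN, x, -, hst⟩ |
    ⟨hN, x, -, hst⟩
  · exfalso
    obtain ⟨R₀, hR₀⟩ := (CfsgLib.Dickson.isCyclic_of_fix_pair L hxy hfix).exists_generator
    obtain ⟨nw, hnw⟩ := hR₀ ⟨w, hwL⟩
    obtain ⟨nr, hnr⟩ := hR₀ ⟨x₁, hx1L⟩
    have hc : Commute (⟨w, hwL⟩ : L) ⟨x₁, hx1L⟩ := hnw ▸ hnr ▸ Commute.zpow_zpow_self R₀ nw nr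
    exact ni (congrArg Subtype.val hc.eq)
  · exfalso
    obtain ⟨ψ⟩ := CfsgLib.Dickson.dihedral_of_pair L hxy hpres hswap
    have h := dihedral_klein (ψ ⟨x₁, hx1L⟩) (ψ ⟨x₂, hx2L⟩) (ψ ⟨w, hwL⟩)
      (by rw [← map_mul, show (⟨x₁, hx1L⟩ * ⟨x₁, hx1L⟩ : L) = 1 from Subtype.ext hx1, map_one])
      (by rw [← map_mul, show (⟨x₂, hx2L⟩ * ⟨x₂, hx2L⟩ : L) = 1 from Subtype.ext hx2, map_one])
      (by rw [← map_mul, ← map_mul]; exact congrArg ψ (Subtype.ext h21.symm))
    simp only [← map_mul, ψ.injective.eq_iff, Subtype.ext_iff, Subgroup.coe_mul] at h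
    rcases h with h | h | h
    · exact ni h
    · exact nk h
    · rw [h12] at h; exact nf h
  · exfalso
    obtain ⟨ψ⟩ := CfsgLib.Dickson.a4_of_stab L hN x hst
    have sq1 : ∀ z : L, z * z = 1 → (ψ z).1 * (ψ z).1 = 1 := fun z hz => by
      have := congrArg Subtype.val (congrArg ψ hz)
      simpa using this
    have h := alt_four_involutions (ψ ⟨w, hwL⟩).1 (ψ ⟨x₁, hx1L⟩).1
      (Equiv.Perm.mem_alternatingGroup.1 (ψ ⟨w, hwL⟩).2) (Equiv.Perm.mem_alternatingGroup.1 (ψ ⟨x₁, hx1L⟩).2)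
      (sq1 _ (Subtype.ext hw)) (sq1 _ (Subtype.ext hx1))
    exact ni (congrArg Subtype.val (ψ.injective ((map_mul ψ _ _).trans ((Subtype.ext h).trans
      (map_mul ψ _ _).symm))))
  · left
    obtain ⟨ψ⟩ := CfsgLib.Dickson.s4_of_stab L hN x hst
    have key : ∀ {z : CfsgLib.Dickson.PGL2 K}, z ∈ L → z * z = 1 ∨ z * z * z = 1 ∨ z * z * z * z = 1 := by
      intro z hz
      have h := perm_four_orders (ψ ⟨z, hz⟩)
      simp only [← map_mul, ← map_one ψ, ψ.injective.eq_iff, Subtype.ext_iff, Subgroup.coe_mul,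
        OneMemClass.coe_one] at h
      exact h
    refine ⟨?_, ?_, ?_⟩
    · rcases key (mul_mem hwL hx1L) with h | h | h
      · exact absurd (noSq hx1 h) ni
      · exact Or.inl (ti3 h)
      · exact Or.inr (ti4 h)
    · rcases key (mul_mem hwL hx2L) with h | h | h
      · exact absurd (noSq hx2 h) nk
      · exact Or.inl (tk3 h)
      · exact Or.inr (tk4 h)
    · rcases key (mul_mem hwL hx3L) with h | h | h
      · exact absurd (noSq hx3 h) nf
      · exact Or.inl (hF3 (by rw [mul_assoc]; exact tf3 h))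
      · exact Or.inr (hF4 (by rw [mul_assoc]; exact tf4 h))
  · right
    have h5 : (5 : F) ≠ 0 := fun h0 => by
      have h' : ((5 : ℕ) : F) = 0 := by exact_mod_cast h0
      rw [CharP.cast_eq_zero_iff F p] at h'
      refine hp ?_
      rw [hN]
      exact h'.trans (by norm_num)
    obtain ⟨ψ⟩ := CfsgLib.Dickson.a5_of_stab L hN x hst
    have key : ∀ {z : CfsgLib.Dickson.PGL2 K}, z ∈ L →
        z * z = 1 ∨ z * z * z = 1 ∨ z * z * z * z * z = 1 := by
      intro z hz
      have h := perm_five_orders (ψ ⟨z, hz⟩).1 (Equiv.Perm.mem_alternatingGroup.1 (ψ ⟨z, hz⟩).2)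
      have back : ∀ u : L, ((ψ u).1 = 1) → u.1 = 1 := fun u hu => by
        have hu' : ψ u = 1 := Subtype.ext hu
        rw [← map_one ψ] at hu'
        exact congrArg Subtype.val (ψ.injective hu')
      refine h.imp (fun h => ?_) (Or.imp (fun h => ?_) fun h => ?_)
      · exact back (⟨z, hz⟩ * ⟨z, hz⟩) (by rw [map_mul]; exact h)
      · exact back (⟨z, hz⟩ * ⟨z, hz⟩ * ⟨z, hz⟩) (by rw [map_mul, map_mul]; exact h)
      · exact back (⟨z, hz⟩ * ⟨z, hz⟩ * ⟨z, hz⟩ * ⟨z, hz⟩ * ⟨z, hz⟩)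
          (by rw [map_mul, map_mul, map_mul, map_mul]; exact h)
    refine ⟨h5, ?_, ?_, ?_⟩
    · rcases key (mul_mem hwL hx1L) with h | h | h
      · exact absurd (noSq hx1 h) ni
      · exact Or.inl (ti3 h)
      · exact Or.inr (by linear_combination ti5 h)
    · rcases key (mul_mem hwL hx2L) with h | h | h
      · exact absurd (noSq hx2 h) nk
      · exact Or.inl (tk3 h)
      · exact Or.inr (by linear_combination tk5 h)
    · rcases key (mul_mem hwL hx3L) with h | h | h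
      · exact absurd (noSq hx3 h) nf
      · exact Or.inl (hF3 (by rw [mul_assoc]; exact tf3 h))
      · refine Or.inr ((mul_eq_zero.1 (show (Fn * Fn) * (16 * Fn * Fn - 12 * Fn + 1) = 0 by
          linear_combination tf5 h)).resolve_left (mul_ne_zero hT.ff hT.ff))

end Tr

end CfsgLib.Geo.OFrame
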