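import Cfsg.Agent.Geo.FrameFive.Descent
import Cfsg.Agent.Geo.OrthFrame.Main

/-!
Five coordinates over a prime field: the monomial part of the commutator subgroup is maximal.
-/

set_option autoImplicit false
set_option linter.unusedSectionVars false

namespace CfsgLib.Geo.OFrame

open QuadraticMap CfsgLib.Forms CfsgLib.Quad Matrix
open scoped commutatorElement

variable {F : Type*} [Field F] [Finite F] [DecidableEq F] {n : ℕ}

section
variable {H : Subgroup (O F n)}

theorem Over.eq_commutator_of_units_five (hH : Over H) (hn : 5 ≤ n)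
    (hall : ∀ w : Fin n → F, w ⬝ᵥ w = 1 → InV H w) : H = commutator (O F n) := by
  have hQ := nondeg (F := F) (n := n) hH.two
  have hfr : 5 ≤ Module.finrank F (Fin n → F) := by rw [Module.finrank_fin_fun]; omega
  set S : Set (O F n) := {g | ∃ u w : Fin n → F, u ⬝ᵥ u = 1 ∧ w ⬝ᵥ w = 1 ∧ g = R u * R w} with hS
  set P := Subgroup.closure S with hP
  have hPH : P ≤ H := (Subgroup.closure_le _).2 fun g ⟨u, w, hu, hw, hg⟩ =>
    hg ▸ ((hall u hu).2 ⟨0, by omega⟩).trans ((hall w hw).2 ⟨0, by omega⟩).symm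
  refine le_antisymm hH.le (le_trans ?_ hPH)
  have hnorm : P.Normal := by
    refine ⟨fun x hx g => ?_⟩
    induction hx using Subgroup.closure_induction with
    | mem y hy =>
      obtain ⟨u, w, hu, hw, rfl⟩ := hy
      refine Subgroup.subset_closure ⟨g.1 u, g.1 w, by rw [self_map, hu], by rw [self_map, hw], ?_⟩
      rw [← R_conj, ← R_conj]
      group
    | one => rw [mul_one, mul_inv_cancel]; exact one_mem _
    | mul y z _ _ hy hz =>
      rw [show g * (y * z) * g⁻¹ = g * y * g⁻¹ * (g * z * g⁻¹) by group]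
      exact mul_mem hy hz
    | inv y _ hy =>
      rw [show g * y⁻¹ * g⁻¹ = (g * y * g⁻¹)⁻¹ by group]
      exact inv_mem hy
  set N := P.subgroupOf (commutator (O F n))
  have hNn : N.Normal := hnorm.subgroupOf _
  set q := QuotientGroup.mk' (Subgroup.center ↥(commutator (O F n)))
  have hmap : (N.map q).Normal := hNn.map _ (QuotientGroup.mk'_surjective _)
  intro x hx
  have : (⟨x, hx⟩ : commutator (O F n)) ∈ N := by
    rcases (isSimpleGroup_omega hQ hfr).eq_bot_or_eq_top_of_normal _ hmap with hbot | htop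
    · exfalso
      obtain ⟨a, b, c, hab, hac, hbc⟩ : ∃ a b c : Fin n, a ≠ b ∧ a ≠ c ∧ b ≠ c :=
        ⟨⟨0, by omega⟩, ⟨1, by omega⟩, ⟨2, by omega⟩, by simp, by simp, by simp⟩
      have hmem : R (e a) * R (e b) ∈ commutator (O F n) := hH.le (hH.rel_e a b)
      have hN : (⟨_, hmem⟩ : commutator (O F n)) ∈ N :=
        Subgroup.subset_closure ⟨e a, e b, ee a, ee b, rfl⟩
      have := Subgroup.mem_map_of_mem q hN
      rw [hbot, Subgroup.mem_bot, QuotientGroup.mk'_apply, QuotientGroup.eq_one_iff,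
        center_iff hQ hfr] at this
      obtain ⟨t, -, ht⟩ := this
      have h1 : (R (e a) * R (e b) : O F n).1 (e a) = -e a := by
        rw [mul_apply, R_fix (ee_ne hab), R_neg (by rw [ee]; exact one_ne_zero)]
      have h2 : (R (e a) * R (e b) : O F n).1 (e c) = e c := by
        rw [mul_apply, R_fix (ee_ne hbc.symm), R_fix (ee_ne hac.symm)]
      have e1 := congrFun ((ht (e a)).symm.trans h1) a
      have e2 := congrFun ((ht (e c)).symm.trans h2) c
      simp [e_apply] at e1 e2
      exact hH.two (by linear_combination e1 - e2)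
    · have hsup : N ⊔ Subgroup.center ↥(commutator (O F n)) = ⊤ := by
        rw [← Subgroup.map_eq_range_iff.trans codisjoint_iff |>.1 (htop.trans
          (MonoidHom.range_eq_top.2 (QuotientGroup.mk'_surjective _)).symm), QuotientGroup.ker_mk']
      refine (?_ : (⊤ : Subgroup ↥(commutator (O F n))) ≤ N) trivial
      refine le_trans (commutator_commutator_eq_top hQ hfr).ge ?_
      rw [commutator_def ↥(commutator (O F n)), Subgroup.commutator_le]
      intro y _ z _
      have hy : y ∈ N ⊔ Subgroup.center ↥(commutator (O F n)) := hsup ▸ Subgroup.mem_top y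
      have hz : z ∈ N ⊔ Subgroup.center ↥(commutator (O F n)) := hsup ▸ Subgroup.mem_top z
      rw [Subgroup.mem_sup_of_normal_left] at hy hz
      obtain ⟨a, ha, c, hc, rfl⟩ := hy
      obtain ⟨b, hb, d, hd, rfl⟩ := hz
      rw [Subgroup.mem_center_iff] at hc hd
      have hcomm : ⁅a * c, b * d⁆ = ⁅a, b⁆ := by
        simp only [commutatorElement_def, _root_.mul_inv_rev]
        calc a * c * (b * d) * (c⁻¹ * a⁻¹) * (d⁻¹ * b⁻¹)
            = a * (c * (b * d)) * c⁻¹ * a⁻¹ * (d⁻¹ * b⁻¹) := by group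
          _ = a * b * d * a⁻¹ * d⁻¹ * b⁻¹ := by rw [← hc (b * d)]; group
          _ = a * b * (d * a⁻¹) * d⁻¹ * b⁻¹ := by group
          _ = a * b * a⁻¹ * b⁻¹ := by rw [← hd a⁻¹]; group
      rw [hcomm, commutatorElement_def]
      exact mul_mem (mul_mem (mul_mem ha hb) (inv_mem ha)) (inv_mem hb)
  exact this

theorem exists_not_mono_five (p : ℕ) [Fact p.Prime] [CharP F p] (h2 : (2 : F) ≠ 0) (hn : 4 ≤ n) :
    ∃ g ∈ commutator (O F n), ¬ Mono g := by
  obtain ⟨a, b, c, d, hab, hac, had, hbc, hbd, hcd⟩ :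
      ∃ a b c d : Fin n, a ≠ b ∧ a ≠ c ∧ a ≠ d ∧ b ≠ c ∧ b ≠ d ∧ c ≠ d :=
    ⟨⟨0, by omega⟩, ⟨1, by omega⟩, ⟨2, by omega⟩, ⟨3, by omega⟩, by simp, by simp, by simp, by simp,
      by simp, by simp⟩
  -- a unit vector with at least three nonzero coordinates
  obtain ⟨u, hu, hua, hub, huc⟩ : ∃ u : Fin n → F, u ⬝ᵥ u = 1 ∧ u a ≠ 0 ∧ u b ≠ 0 ∧ u c ≠ 0 := by
    by_cases h3 : (3 : F) = 0
    · refine ⟨e a + e b + e c + e d, ?_, ?_, ?_, ?_⟩
      · simp [add_dotProduct, dotProduct_add, ee, ee_ne hab, ee_ne hac, ee_ne had, ee_ne hbc, ee_ne hbd,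
          ee_ne hcd, ee_ne hab.symm, ee_ne hac.symm, ee_ne had.symm, ee_ne hbc.symm, ee_ne hbd.symm,
          ee_ne hcd.symm]
        linear_combination h3
      all_goals simp [e_apply, hab, hac, had, hbc, hbd, hcd, hab.symm, hac.symm, hbc.symm]
    · refine ⟨(2 / 3 : F) • e a + (2 / 3 : F) • e b + (1 / 3 : F) • e c, ?_, ?_, ?_, ?_⟩
      · rw [dot_three hab hac hbc]
        field_simp
        ring
      all_goals simp [e_apply, hab, hac, hbc, hab.symm, hac.symm, hbc.symm, h2, h3]
  refine ⟨R u * R (e a), (pair_mem_iff h2 (by rw [hu]; exact one_ne_zero)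
    (by rw [ee]; exact one_ne_zero)).2 (by rw [hu, ee]; simp), fun hm => ?_⟩
  have hle := hm b
  rw [mul_apply, R_fix (ee_ne hab.symm)] at hle
  have h1 : a ∈ supp ((R u : O F n).1 (e b)) ∧ c ∈ supp ((R u : O F n).1 (e b)) := by
    constructor <;>
      simp [mem_supp, R_apply, hu, e_dot, e_apply, hab, hac, hbc, hab.symm, hbc.symm, hua, hub, huc,
        h2]
  exact hac (Finset.card_le_one.1 hle a h1.1 c h1.2)

end

theorem fin_five_cases : ∀ a k : Fin 5,
    k = a ∨ k = a + 1 ∨ k = a + 2 ∨ k = a + 3 ∨ k = a + 4 := by decide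

variable {H : Subgroup (O F 5)}

/-- The overgroup keeps the related vectors. -/
theorem Over.image_five (hH : Over H) {g : O F 5} (hg : g ∈ H) (a : Fin 5) :
    InV H (g.1 (e a)) := by
  classical
  set N : O F 5 := R (e (a + 1)) * R (e (a + 2)) * (R (e (a + 3)) * R (e (a + 4))) with hN
  have hNH : N ∈ H := mul_mem (hH.rel_e _ _) (hH.rel_e _ _)
  have hprod : ∀ v : Fin 5 → F, (R (e a) : O F 5).1 (N.1 v) = -v := fun v => by
    funext k
    have hk := fin_five_cases a k
    simp only [hN, mul_apply, R_e_coord', Pi.neg_apply]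
    rcases hk with rfl | rfl | rfl | rfl | rfl <;> simp [add_eq_left, eq_comm]
  have hgN : g * N * g⁻¹ ∈ H := mul_mem (mul_mem hg hNH) (inv_mem hg)
  have hgprod : ∀ v : Fin 5 → F, (R (g.1 (e a)) : O F 5).1 ((g * N * g⁻¹).1 v) = -v := fun v => by
    rw [← R_conj, mul_apply, mul_apply, mul_apply, mul_apply,
      show (g⁻¹).1 (g.1 (N.1 ((g⁻¹).1 v))) = N.1 ((g⁻¹).1 v) by rw [← mul_apply g⁻¹ g, inv_mul_cancel, one_apply],
      hprod, map_neg, ← mul_apply g g⁻¹, mul_inv_cancel, one_apply]
  have hRa : R (e a) * R (g.1 (e a)) = N * (g * N * g⁻¹)⁻¹ := by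
    refine eq_mul_inv_of_mul_eq (O_ext fun k => ?_)
    rw [mul_apply, mul_apply, hgprod, map_neg]
    have h1 := congrArg (R (e a) : O F 5).1 (hprod (e k))
    rw [← mul_apply, R_sq, one_apply, map_neg] at h1
    rw [← h1]
  refine hH.inV_of_rel (a := a) (by rw [self_map, ee]) (Rel.symm ?_)
  rw [Rel, hRa]
  exact mul_mem hNH (inv_mem hgN)

/-- A non-monomial overgroup has a non-root vector related to the frame. -/
theorem Over.exists_nonroot (hH : Over H) {g : O F 5} (hg : g ∈ H) (hgm : ¬ Mono g) :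
    ∃ v, InV H v ∧ ¬ Root v := by
  classical
  by_contra hno
  push Not at hno
  have h2 := hH.two
  have hcol : ∀ a, InV H (g.1 (e a)) := hH.image_five hg
  have hroot : ∀ a, Root (g.1 (e a)) := fun a => hno _ (hcol a)
  obtain ⟨j, hj⟩ : ∃ j, ¬ (supp (g.1 (e j))).card ≤ 1 := by
    by_contra h
    push Not at h
    exact hgm h
  obtain ⟨c, hc⟩ : ∃ c : F, 2 * (c * c) = 1 := by
    rcases hroot j with h | ⟨h, heq⟩
    · exact absurd h hj
    obtain ⟨a, b, hab, hs⟩ := Finset.card_eq_two.1 h
    refine ⟨g.1 (e j) a, ?_⟩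
    have h1 : g.1 (e j) ⬝ᵥ g.1 (e j) = 1 := by rw [self_map, ee]
    rw [dotProduct, ← Finset.sum_subset (Finset.subset_univ ({a, b} : Finset (Fin 5))) fun i _ hi => by
      rw [(not_mem_supp (v := g.1 (e j))).1 (by rw [hs]; exact hi), zero_mul], Finset.sum_pair hab,
      heq b (by rw [hs]; simp) a (by rw [hs]; simp)] at h1
    linear_combination h1
  have hc0 : c ≠ 0 := fun h => by simp [h] at hc
  have himg : ∀ u, InV H u → InV H (g.1 u) := fun u hu =>
    hH.inV_of_rel (a := j) (by rw [self_map]; exact hu.1) (((hu.2 j).map hg).trans ((hcol j).2 j))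
  refine hgm fun a => pairs (fun i => g.1 (e i)) h2 (A := Finset.univ) (by simp)
    (fun i _ => by rw [self_map, ee]; exact one_ne_zero)
    (fun i _ l _ h => by rw [dot_map g h2, ee_ne h]) (fun a _ b _ hab σ hσ => ?_) a (Finset.mem_univ a)
  have h := hno _ (himg _ (hH.inV_half hab hc hσ))
  have heq : supp (g.1 (c • (e a + σ • e b))) = supp (g.1 (e a) + σ • g.1 (e b)) := by
    rw [map_smul, map_add, map_smul, supp_smul hc0]
  rcases h with h | ⟨h, -⟩ <;> rw [heq] at h <;> omega

/-- Moving three points to three others. -/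
theorem Over.permutes_three_five (hH : Over H) {i k m a b c : Fin 5} (hik : i ≠ k)
    (him : i ≠ m) (hkm : k ≠ m) (hab : a ≠ b) (hac : a ≠ c) (hbc : b ≠ c) :
    ∃ σ, Permutes H σ ∧ σ i = a ∧ σ k = b ∧ σ m = c := by
  obtain ⟨σ₁, h₁, hσ₁, -, -⟩ := hH.permutes_to (x := i) (y := a) ∅ (by simp) (by simp) (by simp)
  have hk1 : σ₁ k ≠ a := fun h => hik (σ₁.injective (hσ₁.trans h.symm))
  obtain ⟨σ₂, h₂, hσ₂, -, hfix₂⟩ := hH.permutes_to (x := σ₁ k) (y := b) {a} (by simpa using hk1)
    (by simpa using hab.symm) (by simp)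
  have ha2 : σ₂ a = a := hfix₂ a (by simp)
  set x := σ₂ (σ₁ m)
  have hm1 : x ≠ a := fun h => him (σ₁.injective (σ₂.injective (by rw [hσ₁, ha2]; exact h.symm)))
  have hm2 : x ≠ b := fun h => hkm (σ₁.injective (σ₂.injective (by rw [hσ₂]; exact h.symm)))
  obtain ⟨σ₃, h₃, hσ₃, hfa, hfb⟩ : ∃ σ₃, Permutes H σ₃ ∧ σ₃ x = c ∧ σ₃ a = a ∧ σ₃ b = b := by
    rcases eq_or_ne x c with hxc | hxc
    · exact ⟨1, Permutes.one, hxc, rfl, rfl⟩
    obtain ⟨z, -, hz⟩ := Finset.exists_mem_notMem_of_card_lt_card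
      (show ({a, b, x, c} : Finset (Fin 5)).card < (Finset.univ : Finset (Fin 5)).card by
        refine lt_of_le_of_lt Finset.card_le_four ?_; simp)
    simp only [Finset.mem_insert, Finset.mem_singleton, not_or] at hz
    refine ⟨_, hH.permutes_swaps hxc (show c ≠ z from Ne.symm hz.2.2.2), ?_, ?_, ?_⟩
    · rw [Equiv.Perm.mul_apply, Equiv.swap_apply_of_ne_of_ne hxc (Ne.symm hz.2.2.1), Equiv.swap_apply_left]
    · rw [Equiv.Perm.mul_apply, Equiv.swap_apply_of_ne_of_ne hac (Ne.symm hz.1),
        Equiv.swap_apply_of_ne_of_ne hm1.symm hac]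
    · rw [Equiv.Perm.mul_apply, Equiv.swap_apply_of_ne_of_ne hbc (Ne.symm hz.2.1),
        Equiv.swap_apply_of_ne_of_ne hm2.symm hbc]
  refine ⟨σ₃ * σ₂ * σ₁, (h₃.mul h₂).mul h₁, ?_, ?_, ?_⟩
  · simp only [Equiv.Perm.mul_apply]; rw [hσ₁, ha2, hfa]
  · simp only [Equiv.Perm.mul_apply]; rw [hσ₂, hfb]
  · simp only [Equiv.Perm.mul_apply]; exact hσ₃

variable (p : ℕ) [Fact p.Prime] [CharP F p]

/-- All units on three coordinates. -/
theorem Over.units_three_five (hH : Over H) (hp : 5 ≤ p) (hcard : Nat.card F = p) (hS : Small3 H)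
    {a b c : Fin 5} (hab : a ≠ b) (hac : a ≠ c) (hbc : b ≠ c) {x y z : F}
    (hN : x * x + y * y + z * z = 1) : InV H (x • e a + y • e b + z • e c) := by
  classical
  have n2 : (2 : F) ≠ 0 := hH.two
  have n3 : (3 : F) ≠ 0 := by exact_mod_cast natCast_ne_zero_of_lt (F := F) p (t := 3) (by omega) (by omega)
  obtain ⟨u, hu, hu3, hur⟩ := hS
  obtain ⟨j, hj0, hj1, hj2⟩ : ∃ j, u j ≠ 0 ∧ u j * u j ≠ 1 ∧ 2 * (u j * u j) ≠ 1 := by
    by_contra hall
    push Not at hall
    have hv : ∀ j ∈ supp u, u j * u j = 1 ∨ 2 * (u j * u j) = 1 := fun j hj => by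
      by_cases h : u j * u j = 1
      · exact Or.inl h
      · exact Or.inr (hall j (mem_supp.1 hj) h)
    have h1 : (∑ j ∈ supp u, u j * u j) = 1 := by rw [← sum_sq_supp, hu.1]
    have hc2 : 2 ≤ (supp u).card := by
      by_contra h
      exact hur (Or.inl (by omega))
    rcases (show (supp u).card = 2 ∨ (supp u).card = 3 by omega) with h | h
    · obtain ⟨s, t, hst, he⟩ := Finset.card_eq_two.1 h
      rw [he, Finset.sum_pair hst] at h1
      have hs0 : u s * u s ≠ 0 := mul_self_ne_zero.2 (mem_supp.1 (by rw [he]; simp))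
      have ht0 : u t * u t ≠ 0 := mul_self_ne_zero.2 (mem_supp.1 (by rw [he]; simp))
      rcases hv s (by rw [he]; simp) with a1 | a1 <;> rcases hv t (by rw [he]; simp) with b1 | b1
      · exact hs0 (by linear_combination h1 - b1)
      · exact ht0 (by linear_combination h1 - a1)
      · exact hs0 (by linear_combination h1 - b1)
      · refine hur (Or.inr ⟨h, fun p hp q hq => mul_left_cancel₀ n2 ?_⟩)
        rw [he] at hp hq
        simp only [Finset.mem_insert, Finset.mem_singleton] at hp hq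
        rcases hp with rfl | rfl <;> rcases hq with rfl | rfl <;>
          first | linear_combination a1 - b1 | linear_combination b1 - a1 | rfl
    · obtain ⟨r, s, t, hrs, hrt, hst, he⟩ := Finset.card_eq_three.1 h
      rw [he, Finset.sum_insert (by simp [hrs, hrt]), Finset.sum_pair hst] at h1
      rcases hv r (by rw [he]; simp) with a1 | a1 <;> rcases hv s (by rw [he]; simp) with b1 | b1 <;>
        rcases hv t (by rw [he]; simp) with c1 | c1
      all_goals
        first
          | exact n2 (by linear_combination h1 - a1 - b1 - c1)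
          | exact n2 (by linear_combination -(h1 - a1 - b1 - c1))
          | exact n3 (by linear_combination 2 * h1 - 2 * a1 - 2 * b1 - c1)
          | exact n3 (by linear_combination 2 * h1 - 2 * a1 - b1 - 2 * c1)
          | exact n3 (by linear_combination 2 * h1 - a1 - 2 * b1 - 2 * c1)
          | exact n2 (by linear_combination 2 * h1 - 2 * a1 - b1 - c1)
          | exact n2 (by linear_combination 2 * h1 - a1 - 2 * b1 - c1)
          | exact n2 (by linear_combination 2 * h1 - a1 - b1 - 2 * c1)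
          | exact one_ne_zero (show (1 : F) = 0 by linear_combination 2 * h1 - a1 - b1 - c1)
  obtain ⟨T, hsub, hT⟩ := Finset.exists_superset_card_eq (s := supp u) (n := 3) hu3 (by simp)
  have hjT : j ∈ T := hsub (mem_supp.2 hj0)
  obtain ⟨i, k, hik, hTe⟩ := Finset.card_eq_two.1 (show (T.erase j).card = 2 by
    rw [Finset.card_erase_of_mem hjT, hT])
  have hiT : i ∈ T.erase j := by rw [hTe]; simp
  have hkT : k ∈ T.erase j := by rw [hTe]; simp
  rw [Finset.mem_erase] at hiT hkT
  obtain ⟨m, o, hm, ho, hmo⟩ := exists_avoid T (by omega)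
  have hd : ∀ {q r : Fin 5}, q ∈ T → r ∉ T → q ≠ r := fun hq hr h => hr (h ▸ hq)
  set f := u j • e (F := F) j with hf
  have hTri : Tri H i k m o f := ⟨hH, hik, hmo, hd hiT.2 hm, hd hiT.2 ho, hd hkT.2 hm, hd hkT.2 ho,
    by simp [hf, e_apply, hiT.1], by simp [hf, e_apply, hkT.1],
    by simp [hf, e_apply, (hd hjT hm).symm], by simp [hf, e_apply, (hd hjT ho).symm],
    by simp [hf, smul_dotProduct, dotProduct_smul, ee, hj0]⟩
  have huV : InV H (u i • e i + u k • e k + f) := by
    rw [show u i • e i + u k • e k + f = u from ?_]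
    · exact hu
    funext t
    by_cases ht : t ∈ T
    · rcases eq_or_ne t j with rfl | htj
      · simp [hf, e_apply, hiT.1.symm, hkT.1.symm]
      · have : t ∈ T.erase j := Finset.mem_erase.2 ⟨htj, ht⟩
        rw [hTe, Finset.mem_insert, Finset.mem_singleton] at this
        rcases this with rfl | rfl <;> simp [hf, e_apply, hiT.1, hkT.1, hik, hik.symm]
    · simp [hf, e_apply, (hd hiT.2 ht).symm, (hd hkT.2 ht).symm, (hd hjT ht).symm,
        not_mem_supp.1 fun h => ht (hsub h)]
  have hb1 : f ⬝ᵥ f ≠ 1 := by simpa [hf, smul_dotProduct, dotProduct_smul, ee] using hj1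
  have hb2 : 2 * (f ⬝ᵥ f) ≠ 1 := by simpa [hf, smul_dotProduct, dotProduct_smul, ee] using hj2
  obtain ⟨σ, hσ, h1, h2, h3⟩ := hH.permutes_three_five hab hac hbc hik hiT.1 hkT.1
  have hY : InV H (x • e i + y • e k + z • e j) := by
    have h := (hTri.move p hcard hp huV hb1 hb2 (y := e i) (y' := x • e i + y • e k + z • e j)
      (x := 0) hTri.inY_e_i ⟨x, y, z / u j, by rw [hf, smul_smul, div_mul_cancel₀ _ hj0]⟩
      (by rw [ee, dot_three hik hiT.1 hkT.1, hN]) (by rw [ee]; exact one_ne_zero)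
      ⟨rfl, rfl, zero_dotProduct f⟩).1 (by rw [add_zero]; exact hH.inV_e i)
    rwa [add_zero] at h
  convert hH.inV_perm hσ hY using 1
  funext t
  simp only [Pi.add_apply, Pi.smul_apply, e_apply, ← h1, ← h2, ← h3, σ.injective.eq_iff]

/-- All units. -/
theorem Over.all_units_five (hH : Over H) (hp : 5 ≤ p) (hcard : Nat.card F = p) (hS : Small3 H) :
    ∀ w : Fin 5 → F, w ⬝ᵥ w = 1 → InV H w := by
  have h3u : ∀ {a b c : Fin 5}, a ≠ b → a ≠ c → b ≠ c → ∀ {x y z : F},
      x * x + y * y + z * z = 1 → InV H (x • e a + y • e b + z • e c) :=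
    fun hab hac hbc => fun hN => hH.units_three_five p hp hcard hS hab hac hbc hN
  have h2 : (2 : F) ≠ 0 := hH.two
  have h3 : (3 : F) ≠ 0 := by exact_mod_cast natCast_ne_zero_of_lt (F := F) p (t := 3) (by omega) (by omega)
  obtain ⟨c₀, hc0, hc1, hc2⟩ : ∃ c : F, c ≠ 0 ∧ c * c ≠ 1 ∧ 2 * (c * c) ≠ 1 := by
    by_cases h : (8 : F) = 1
    · refine ⟨3, h3, fun h' => ?_, fun h' => h3 ?_⟩
      · exact one_ne_zero (show (1 : F) = 0 by linear_combination h' - h)
      · linear_combination h' - 2 * h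
    · exact ⟨2, h2, fun h' => h3 (by linear_combination h'), fun h' => h (by linear_combination h')⟩
  intro w
  induction hc : (supp w).card using Nat.strong_induction_on generalizing w with
  | _ s ih =>
    intro hw
    by_cases hs : s ≤ 3
    · obtain ⟨T, hsub, hT⟩ := Finset.exists_superset_card_eq (s := supp w) (n := 3) (by omega)
        (by rw [Fintype.card_fin]; omega)
      obtain ⟨a, b, c, hab, hac, hbc, rfl⟩ := Finset.card_eq_three.1 hT
      have hwe : w = w a • e a + w b • e b + w c • e c := by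
        funext t
        by_cases ht : t ∈ ({a, b, c} : Finset (Fin 5))
        · simp only [Finset.mem_insert, Finset.mem_singleton] at ht
          rcases ht with rfl | rfl | rfl <;>
            simp [e_apply, hab, hac, hbc, hab.symm, hac.symm, hbc.symm]
        · have h0 := not_mem_supp.1 fun h => ht (hsub h)
          simp only [Finset.mem_insert, Finset.mem_singleton, not_or] at ht
          simp [e_apply, ht.1, ht.2.1, ht.2.2, h0]
      rw [hwe]
      refine h3u hab hac hbc ?_
      rw [← dot_three hab hac hbc, ← hwe, hw]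
    · obtain ⟨T, hTsub, hT⟩ := Finset.exists_subset_card_eq (s := supp w) (n := 4) (by omega)
      obtain ⟨a, b, c, d, hab, hac, had, hbc, hbd, hcd, rfl⟩ := Finset.card_eq_four.1 hT
      obtain ⟨a', b', c', ha', hb', hc', hab', hac', hbc', hne⟩ : ∃ a' b' c', a' ∈ supp w ∧
          b' ∈ supp w ∧ c' ∈ supp w ∧ a' ≠ b' ∧ a' ≠ c' ∧ b' ≠ c' ∧
          w a' * w a' + w b' * w b' + w c' * w c' ≠ 0 := by
        have hm : a ∈ supp w ∧ b ∈ supp w ∧ c ∈ supp w ∧ d ∈ supp w :=
          ⟨hTsub (by simp), hTsub (by simp), hTsub (by simp), hTsub (by simp)⟩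
        by_contra hall
        push Not at hall
        have e1 := hall a b c hm.1 hm.2.1 hm.2.2.1 hab hac hbc
        have e2 := hall a b d hm.1 hm.2.1 hm.2.2.2 hab had hbd
        have e3 := hall a c d hm.1 hm.2.2.1 hm.2.2.2 hac had hcd
        have e4 := hall b c d hm.2.1 hm.2.2.1 hm.2.2.2 hbc hbd hcd
        have h0 : (3 : F) * (w a * w a) = 0 := by linear_combination e1 + e2 + e3 - 2 * e4
        exact mem_supp.1 hm.1 (mul_self_eq_zero.1 ((mul_eq_zero.1 h0).resolve_left h3))
      obtain ⟨m', o', hm', ho', hmo'⟩ := exists_avoid {a', b', c'} (by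
        have := Finset.card_le_three (a := a') (b := b') (c := c'); omega)
      simp only [Finset.mem_insert, Finset.mem_singleton, not_or] at hm' ho'
      obtain ⟨r, t, hrt⟩ := exists_binary (β := (1 : F)) (N := 1 - c₀ * c₀) one_ne_zero h2
      set f := c₀ • e (F := F) c' with hf
      have hT : Tri H a' b' m' o' f := ⟨hH, hab', hmo', Ne.symm hm'.1, Ne.symm ho'.1, Ne.symm hm'.2.1,
        Ne.symm ho'.2.1, by simp [hf, e_apply, hac'], by simp [hf, e_apply, hbc'],
        by simp [hf, e_apply, hm'.2.2], by simp [hf, e_apply, ho'.2.2],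
        by simp [hf, smul_dotProduct, dotProduct_smul, ee, hc0]⟩
      have hrtV : InV H (r • e a' + t • e b' + f) :=
        h3u hab' hac' hbc' (by linear_combination hrt)
      have hf1 : f ⬝ᵥ f ≠ 1 := by simpa [hf, smul_dotProduct, dotProduct_smul, ee] using hc1
      have hf2 : 2 * (f ⬝ᵥ f) ≠ 1 := by simpa [hf, smul_dotProduct, dotProduct_smul, ee] using hc2
      obtain ⟨y, z, hyz⟩ := exists_binary (β := (1 : F))
        (N := w a' * w a' + w b' * w b' + w c' * w c') one_ne_zero h2
      set x := w - (w a' • e a' + w b' • e b' + w c' • e c') with hx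
      have hxv : ∀ s, x s = if s = a' ∨ s = b' ∨ s = c' then 0 else w s := fun s => by
        rw [hx]
        by_cases hs' : s = a' ∨ s = b' ∨ s = c'
        · rw [if_pos hs']
          rcases hs' with rfl | rfl | rfl <;>
            simp [e_apply, hab', hac', hbc', hab'.symm, hac'.symm, hbc'.symm]
        · rw [if_neg hs']
          simp only [not_or] at hs'
          simp [e_apply, hs'.1, hs'.2.1, hs'.2.2]
      have hxp : PerpY a' b' f x := ⟨by simp [hxv], by simp [hxv], by
        simp [hf, dotProduct_smul, dot_e, hxv]⟩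
      have hsplit : w = w a' • e a' + w b' • e b' + w c' • e c' + x := by rw [hx]; abel
      rw [hsplit]
      refine (hT.move p hcard hp hrtV hf1 hf2 (y' := y • e a' + z • e b' + (0 : F) • f)
        ⟨w a', w b', w c' / c₀, by rw [hf, smul_smul, div_mul_cancel₀ _ hc0]⟩ ⟨_, _, _, rfl⟩ ?_ ?_
        hxp).2 ?_
      · rw [zero_smul, add_zero, dot_three hab' hac' hbc']
        simp [add_dotProduct, dotProduct_add, smul_dotProduct, dotProduct_smul, ee, ee_ne hab',
          ee_ne hab'.symm]
        linear_combination -hyz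
      · rw [dot_three hab' hac' hbc']; exact hne
      · refine ih _ ?_ _ rfl ?_
        · rw [← hc]
          refine Finset.card_lt_card (Finset.ssubset_iff_of_subset (fun s hs' => ?_) |>.2
            ⟨c', hc', ?_⟩)
          · rw [mem_supp] at hs' ⊢
            rcases eq_or_ne s a' with rfl | h1
            · exact mem_supp.1 ha'
            rcases eq_or_ne s b' with rfl | h2'
            · exact mem_supp.1 hb'
            intro h0
            refine hs' ?_
            simp [e_apply, hxv, h1, h2', h0]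
          · simp [mem_supp, e_apply, hxv, hac'.symm, hbc'.symm]
        · have e1 : (y • e a' + z • e b' + (0 : F) • f) ⬝ᵥ x = 0 := by
            rw [dotProduct_comm]
            exact hT.perp_dot hxp ⟨_, _, _, rfl⟩
          have e2 : (w a' • e a' + w b' • e b' + w c' • e c') ⬝ᵥ x = 0 := by
            simp [add_dotProduct, smul_dotProduct, e_dot, hxv]
          rw [hsplit] at hw
          simp only [add_dotProduct, dotProduct_add] at hw e1 e2 ⊢
          simp [dotProduct_comm x, smul_dotProduct, dotProduct_smul, ee, ee_ne hab', ee_ne hac',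
            ee_ne hbc', ee_ne hab'.symm, ee_ne hac'.symm, ee_ne hbc'.symm, e_dot, dot_e, hxv,
            e_apply, hab', hab'.symm, hac', hac'.symm, hbc', hbc'.symm] at hw ⊢
          linear_combination hw + hyz

omit [Fact p.Prime] [CharP F p] in
/-- Over three elements one vector gives all units. -/
theorem Over.all_units_five_three [CharP F 3] (hH : Over H) (hcard : Nat.card F = 3) {v : Fin 5 → F}
    (hv : InV H v) (hnr : ¬ Root v) : ∀ w : Fin 5 → F, w ⬝ᵥ w = 1 → InV H w := by
  classical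
  intro w hw
  have hle : ∀ u : Fin 5 → F, (supp u).card ≤ 5 := fun u => by simpa using Finset.card_le_univ (supp u)
  have hv4 : (supp v).card = 4 := by
    have h1 := card_unit hcard hv.1
    have := hle v
    have : ¬ (supp v).card ≤ 1 := fun h => hnr (Or.inl h)
    omega
  have hwc := card_unit hcard hw
  have := hle w
  rcases (show (supp w).card = 1 ∨ (supp w).card = 4 by omega) with h | h
  · obtain ⟨a, ha⟩ := Finset.card_eq_one.1 h
    exact hH.inV_of_supp hcard (by rw [supp_e, ha]) (hH.inV_e a)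
  obtain ⟨o, ho⟩ := Finset.card_eq_one.1 (show (supp v)ᶜ.card = 1 by
    rw [Finset.card_compl, Fintype.card_fin, hv4])
  obtain ⟨q, hq⟩ := Finset.card_eq_one.1 (show (supp w)ᶜ.card = 1 by
    rw [Finset.card_compl, Fintype.card_fin, h])
  obtain ⟨σ, hσ, h1, -, -⟩ := hH.permutes_to (x := q) (y := o) ∅ (by simp) (by simp) (by simp)
  refine hH.inV_of_supp hcard ?_ (hH.inV_perm hσ hv)
  ext t
  have e1 : σ t ∈ (supp v)ᶜ ↔ σ t = o := by rw [ho, Finset.mem_singleton]
  have e2 : t ∈ (supp w)ᶜ ↔ t = q := by rw [hq, Finset.mem_singleton]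
  rw [Finset.mem_compl, mem_supp, not_not] at e1
  rw [Finset.mem_compl, mem_supp, not_not] at e2
  rw [mem_supp, mem_supp, not_iff_not, e1, e2, ← h1, σ.injective.eq_iff]

/-- A proper overgroup consists of monomial elements. -/
theorem frame_key_five (hcard : Nat.card F = p) (hH : Over H) {g : O F 5} (hg : g ∈ H)
    (hgm : ¬ Mono g) : H = commutator (O F 5) := by
  obtain ⟨v, hv, hnr⟩ := hH.exists_nonroot hg hgm
  refine hH.eq_commutator_of_units_five le_rfl ?_
  have hp : p.Prime := Fact.out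
  by_cases h3 : p = 3
  · subst h3
    exact hH.all_units_five_three hcard hv hnr
  · have hp2 : p ≠ 2 := by
      rintro rfl
      exact hH.two (by rw [← Nat.cast_two, CharP.cast_eq_zero F 2])
    have hp5 : 5 ≤ p := by
      have h2 := hp.two_le
      by_contra h
      interval_cases p
      · exact hp2 rfl
      · exact h3 rfl
      · exact absurd hp (by decide)
    exact hH.all_units_five p hp5 hcard (hH.small_three p hp5 hcard hv hnr)

omit [Fact p.Prime] in
/-- The monomial part is maximal. -/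
theorem monoSub_maximal_five [Fact p.Prime] (hcard : Nat.card F = p) (h2 : (2 : F) ≠ 0) :
    Cfsg.Geo.IsMaximalIn (commutator (O F 5)) (monoSub F 5 ⊓ commutator (O F 5)) := by
  refine ⟨lt_of_le_of_ne inf_le_right fun h => ?_, fun M hM hMK => ?_⟩
  · obtain ⟨g, hg, hgm⟩ := exists_not_mono_five (F := F) (n := 5) p h2 (by omega)
    exact hgm ((h.ge hg).1)
  · by_cases h : M ≤ monoSub F 5
    · exact Or.inl (le_antisymm (le_inf h hMK) hM)
    · obtain ⟨g, hg, hgm⟩ := SetLike.not_le_iff_exists.1 h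
      exact Or.inr (frame_key_five p hcard ⟨h2, hMK, fun g hg hgm => hM ⟨hgm, hg⟩⟩ hg hgm)

end CfsgLib.Geo.OFrame
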