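import Cfsg.Agent.Geo.FrameFive.Dichotomy

/-!
Four or five nonzero squares with sum one, all pairs of which take the special values, are four quarters.
-/

set_option autoImplicit false
set_option linter.unusedSectionVars false

namespace CfsgLib.Geo.OFrame

variable {F : Type*} [Field F] [Finite F] [DecidableEq F]

/-- The special values of a pair and its complement. -/
def Special (A B C : F) : Prop :=
  (OctVal A ∧ OctVal B ∧ OctVal C) ∨ ((5 : F) ≠ 0 ∧ IcoVal A ∧ IcoVal B ∧ IcoVal C)

variable (p : ℕ) [Fact p.Prime] [CharP F p]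

theorem nat_ne_zero (hp : 5 ≤ p) {t : ℕ} (h0 : 0 < t) (ht : t < 5) : (t : F) ≠ 0 := by
  rw [Ne, CharP.cast_eq_zero_iff F p]
  exact fun h => absurd (Nat.le_of_dvd h0 h) (by omega)

theorem fourth_power_five (hcard : Nat.card F = p) (h5 : (5 : F) = 0) {x : F} (hx : x ≠ 0) :
    x * x * (x * x) = 1 := by
  have hp : p = 5 := by
    have h' : ((5 : ℕ) : F) = 0 := by exact_mod_cast h5
    rw [CharP.cast_eq_zero_iff F p] at h'
    exact ((Nat.prime_dvd_prime_iff_eq Fact.out Nat.prime_five).1 h')
  have : Fintype F := Fintype.ofFinite F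
  have h := FiniteField.pow_card_sub_one_eq_one x hx
  rw [← Nat.card_eq_fintype_card, hcard, hp] at h
  linear_combination h

set_option maxHeartbeats 1000000 in
theorem residual {ι : Type*} [DecidableEq ι] (hp : 5 ≤ p) (hcard : Nat.card F = p) {S : Finset ι}
    (x : ι → F) (hs : 4 ≤ S.card) (hs5 : S.card ≤ 5) (hne : ∀ i ∈ S, x i ≠ 0)
    (hsum : ∑ i ∈ S, x i * x i = 1)
    (hres : ∀ i ∈ S, ∀ k ∈ S, i ≠ k → x i * x i + x k * x k ≠ 1 →
      Special (x i * x i) (x k * x k) (1 - x i * x i - x k * x k)) :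
    S.card = 4 ∧ ∀ i ∈ S, 4 * (x i * x i) = 1 := by
  classical
  set X : ι → F := fun i => x i * x i with hX
  change ∑ i ∈ S, X i = 1 at hsum
  change ∀ i ∈ S, ∀ k ∈ S, i ≠ k → X i + X k ≠ 1 → Special (X i) (X k) (1 - X i - X k) at hres
  show S.card = 4 ∧ ∀ i ∈ S, 4 * X i = 1
  have hX0 : ∀ i ∈ S, X i ≠ 0 := fun i hi => mul_ne_zero (hne i hi) (hne i hi)
  have n2 : (2 : F) ≠ 0 := by exact_mod_cast nat_ne_zero (F := F) p hp (t := 2) (by omega) (by omega)
  have n3 : (3 : F) ≠ 0 := by exact_mod_cast nat_ne_zero (F := F) p hp (t := 3) (by omega) (by omega)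
  have n4 : (4 : F) ≠ 0 := by exact_mod_cast nat_ne_zero (F := F) p hp (t := 4) (by omega) (by omega)
  -- every coordinate takes a special value
  have hpartner : ∀ i ∈ S, ∃ k ∈ S, i ≠ k ∧ X i + X k ≠ 1 := by
    intro i hi
    by_contra hall
    push Not at hall
    have e1 : ∑ k ∈ S.erase i, X k = (S.card - 1 : ℕ) * (1 - X i) := by
      rw [Finset.sum_congr rfl (g := fun _ => 1 - X i) fun k hk => by
        have := hall k (Finset.mem_of_mem_erase hk) (Finset.ne_of_mem_erase hk).symm
        linear_combination this, Finset.sum_const, Finset.card_erase_of_mem hi, nsmul_eq_mul]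
    rw [← Finset.add_sum_erase _ _ hi, e1] at hsum
    have hA : X i = 1 := by
      rcases (show S.card = 4 ∨ S.card = 5 by omega) with h | h <;> rw [h] at hsum <;> norm_num at hsum
      · exact (sub_eq_zero.1 ((mul_eq_zero.1 (show (2 : F) * (1 - X i) = 0 by
          linear_combination hsum)).resolve_left n2)).symm
      · exact (sub_eq_zero.1 ((mul_eq_zero.1 (show (3 : F) * (1 - X i) = 0 by
          linear_combination hsum)).resolve_left n3)).symm
    obtain ⟨k, hk, hki⟩ := Finset.exists_mem_ne (show 1 < S.card by omega) i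
    exact hX0 k hk (by linear_combination hall k hk hki.symm - hA)
  have ico_not_oct : ∀ {A : F}, 16 * A * A - 12 * A + 1 = 0 → ¬ OctVal A := by
    rintro A h (h' | h')
    · exact one_ne_zero (show (1 : F) = 0 by linear_combination (4 * A - 2) * h' - h)
    · exact one_ne_zero (show (1 : F) = 0 by linear_combination (8 * A - 2) * h' - h)
  have half_not_ico : ∀ {A : F}, 2 * A = 1 → ¬ IcoVal A := by
    rintro A h' (h | h)
    · exact one_ne_zero (show (1 : F) = 0 by linear_combination h - 2 * h')
    · exact ico_not_oct h (Or.inr h')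
  have hval : ∀ i ∈ S, OctVal (X i) ∨ ((5 : F) ≠ 0 ∧ 16 * X i * X i - 12 * X i + 1 = 0) := by
    intro i hi
    obtain ⟨k, hk, hik, hne'⟩ := hpartner i hi
    rcases hres i hi k hk hik hne' with ⟨h, -, -⟩ | ⟨h5, h | h, -, -⟩
    · exact Or.inl h
    · exact Or.inl (Or.inl h)
    · exact Or.inr ⟨h5, h⟩
  by_cases hphi : ∃ i ∈ S, 16 * X i * X i - 12 * X i + 1 = 0
  swap
  · -- only quarters and halves
    push Not at hphi
    have hoct : ∀ i ∈ S, OctVal (X i) := fun i hi => (hval i hi).resolve_right fun h => hphi i hi h.2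
    set δ : ι → ℕ := fun i => if 2 * X i = 1 then 1 else 0 with hδ
    have h4X : ∀ i ∈ S, 4 * X i = ((1 + δ i : ℕ) : F) := fun i hi => by
      simp only [hδ]
      split_ifs with h
      · push_cast; linear_combination 2 * h
      · rw [Nat.add_zero, Nat.cast_one]; exact (hoct i hi).resolve_right h
    have hN : ((S.card + ∑ i ∈ S, δ i : ℕ) : F) = ((4 : ℕ) : F) := by
      rw [show S.card + ∑ i ∈ S, δ i = ∑ i ∈ S, (1 + δ i) by
        rw [Finset.sum_add_distrib, Finset.card_eq_sum_ones], Nat.cast_sum,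
        ← Finset.sum_congr rfl h4X, ← Finset.mul_sum, hsum, mul_one]
      norm_num
    rw [CharP.natCast_eq_natCast F p] at hN
    have hle : ∑ i ∈ S, δ i ≤ S.card := by
      rw [Finset.card_eq_sum_ones]
      exact Finset.sum_le_sum fun i _ => by simp only [hδ]; split_ifs <;> omega
    by_cases h5 : (5 : F) = 0
    · have hδ0 : ∀ i ∈ S, δ i = 0 := fun i hi => by
        simp only [hδ]
        rw [if_neg fun h => n3 ?_]
        have := fourth_power_five p hcard h5 (hne i hi)
        linear_combination (1 + 2 * X i) * h - 4 * this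
      rw [Finset.sum_eq_zero hδ0, add_zero] at hN
      have hs4 : S.card = 4 := by
        by_contra hne4
        have : S.card = 5 := by omega
        rw [this] at hN
        have := (Nat.modEq_iff_dvd' (n := p) (show 4 ≤ 5 by omega)).1 hN.symm
        norm_num at this
        omega
      refine ⟨hs4, fun i hi => ?_⟩
      rw [h4X i hi, hδ0 i hi]; simp
    · have hp7 : 7 ≤ p := by
        by_contra h
        interval_cases p
        · exact h5 (by exact_mod_cast CharP.cast_eq_zero F 5)
        · exact absurd (Fact.out : Nat.Prime 6) (by decide)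
      have h4 : S.card + ∑ i ∈ S, δ i = 4 := by
        have hd := (Nat.modEq_iff_dvd' (n := p) (show 4 ≤ S.card + ∑ i ∈ S, δ i by omega)).1 hN.symm
        have := Nat.eq_zero_of_dvd_of_lt hd (by omega)
        omega
      have hδ0 : ∑ i ∈ S, δ i = 0 := by omega
      refine ⟨by omega, fun i hi => ?_⟩
      rw [h4X i hi, (Finset.sum_eq_zero_iff.1 hδ0) i hi]; simp
  exfalso
  obtain ⟨i₀, hi₀, hφ₀⟩ := hphi
  have h5 : (5 : F) ≠ 0 := ((hval i₀ hi₀).resolve_left (ico_not_oct hφ₀)).1
  have hico : ∀ i ∈ S, IcoVal (X i) := by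
    intro i hi
    rcases hval i hi with h | h
    · rcases h with h | h
      · exact Or.inl h
      · exfalso
        have hne' : i₀ ≠ i := fun e => ico_not_oct hφ₀ (Or.inr (e ▸ h))
        by_cases h1 : X i₀ + X i = 1
        · exact ico_not_oct hφ₀ (Or.inr (by linear_combination 2 * h1 - h))
        · rcases hres i₀ hi₀ i hi hne' h1 with ⟨h', -, -⟩ | ⟨-, -, h', -⟩
          · exact ico_not_oct hφ₀ h'
          · exact half_not_ico h h'
    · exact Or.inr h.2
  -- a repeated root forces the eleven
  have hrep : ∀ i ∈ S, ∀ k ∈ S, i ≠ k → X i = X k → 16 * X i * X i - 12 * X i + 1 = 0 →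
      8 * X i + 1 = 0 ∧ (11 : F) = 0 := by
    intro i hi k hk hik he hφ
    have hne' : X i + X k ≠ 1 := fun h => ico_not_oct hφ (Or.inr (by rw [← h, ← he]; ring))
    rcases hres i hi k hk hik hne' with ⟨h, -, -⟩ | ⟨-, -, -, h⟩
    · exact absurd h (ico_not_oct hφ)
    rw [← he] at h
    rcases h with h | h
    · exact absurd (show (5 : F) = 0 by linear_combination (-(8 * X i - 3)) * h - 4 * hφ) h5
    · have h8 : 8 * X i + 1 = 0 := by linear_combination h - 4 * hφ
      exact ⟨h8, by linear_combination (-(8 * X i - 7)) * h8 + 4 * hφ⟩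
  by_cases hdist : ∃ i ∈ S, ∃ k ∈ S, i ≠ k ∧ X i = X k ∧ 16 * X i * X i - 12 * X i + 1 = 0
  · obtain ⟨i, hi, k, hk, hik, he, hφ⟩ := hdist
    obtain ⟨h8, h11⟩ := hrep i hi k hk hik he hφ
    have hp11 : p = 11 := by
      have h' : ((11 : ℕ) : F) = 0 := by exact_mod_cast h11
      rw [CharP.cast_eq_zero_iff F p] at h'
      exact (Nat.prime_dvd_prime_iff_eq Fact.out (by norm_num)).1 h'
    have hval' : ∀ j ∈ S, X j = 3 ∨ X j = 4 ∨ X j = 5 := by
      intro j hj
      rcases hico j hj with h | h
      · exact Or.inl (by linear_combination 3 * h - X j * h11)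
      · have : (X j - 4) * (X j - 5) = 0 := by
          linear_combination 9 * h + (-13 * X j * X j + 9 * X j + 1) * h11
        rcases mul_eq_zero.1 this with h' | h'
        · exact Or.inr (Or.inl (sub_eq_zero.1 h'))
        · exact Or.inr (Or.inr (sub_eq_zero.1 h'))
    set δ : ι → ℕ := fun j => if X j = 3 then 0 else if X j = 4 then 1 else 2 with hδ
    have hXδ : ∀ j ∈ S, X j = ((3 + δ j : ℕ) : F) := fun j hj => by
      simp only [hδ]
      split_ifs with e3 e4
      · rw [e3]; norm_num
      · rw [e4]; norm_num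
      · rw [((hval' j hj).resolve_left e3).resolve_left e4]; norm_num
    set P := S.filter fun j => X j = 5 with hP
    have hP1 : P.card ≤ 1 := by
      rw [Finset.card_le_one]
      intro j hj l hl
      by_contra hjl
      simp only [hP, Finset.mem_filter] at hj hl
      have hφ5 : 16 * X j * X j - 12 * X j + 1 = 0 := by
        rw [hj.2]; linear_combination (31 : F) * h11
      have := (hrep j hj.1 l hl.1 hjl (hj.2.trans hl.2.symm) hφ5).1
      rw [hj.2] at this
      have h41 : ((41 : ℕ) : F) = 0 := by norm_num; linear_combination this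
      rw [CharP.cast_eq_zero_iff F p, hp11] at h41
      norm_num at h41
    have hDle : ∑ j ∈ S, δ j ≤ S.card + 1 := by
      calc ∑ j ∈ S, δ j ≤ ∑ j ∈ S, (1 + if X j = 5 then 1 else 0) := Finset.sum_le_sum fun j hj => by
            simp only [hδ]
            rcases hval' j hj with h' | h' | h'
            · rw [if_pos h']; omega
            · split_ifs <;> omega
            · rw [if_pos h']; split_ifs <;> omega
        _ = S.card + P.card := by
            rw [Finset.sum_add_distrib, Finset.card_eq_sum_ones S, hP, Finset.card_filter]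
        _ ≤ _ := by omega
    have hDpos : 1 ≤ ∑ j ∈ S, δ j := by
      refine le_trans ?_ (Finset.single_le_sum (fun j _ => Nat.zero_le (δ j)) hi₀)
      simp only [hδ]
      split_ifs with e3 e4 <;> first | omega | (
        exfalso
        refine ico_not_oct hφ₀ (Or.inl ?_)
        rw [e3]; linear_combination h11)
    have hN : ((3 * S.card + ∑ j ∈ S, δ j : ℕ) : F) = ((12 : ℕ) : F) := by
      rw [show 3 * S.card + ∑ j ∈ S, δ j = ∑ j ∈ S, (3 + δ j) by
        rw [Finset.sum_add_distrib, Finset.sum_const, smul_eq_mul, mul_comm], Nat.cast_sum,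
        ← Finset.sum_congr rfl hXδ, hsum]
      norm_num
      linear_combination -h11
    rw [CharP.natCast_eq_natCast F p, hp11] at hN
    have hd := (Nat.modEq_iff_dvd' (n := 11) (show 12 ≤ 3 * S.card + ∑ j ∈ S, δ j by omega)).1 hN.symm
    have := Nat.eq_zero_of_dvd_of_lt hd (by omega)
    omega
  · push Not at hdist
    have hpairsum : ∀ i ∈ S, ∀ k ∈ S, i ≠ k → 16 * X i * X i - 12 * X i + 1 = 0 →
        16 * X k * X k - 12 * X k + 1 = 0 → 4 * X i + 4 * X k = 3 := by
      intro i hi k hk hik hi' hk'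
      refine mul_left_cancel₀ n4 (sub_eq_zero.1 ((mul_eq_zero.1 (show (X i - X k) *
        (4 * (4 * X i + 4 * X k) - 4 * 3) = 0 by linear_combination hi' - hk')).resolve_left
        (sub_ne_zero.2 fun e => hdist i hi k hk hik e hi')))
    set P := S.filter fun j => 16 * X j * X j - 12 * X j + 1 = 0 with hP
    have hPmem : ∀ {j}, j ∈ P ↔ j ∈ S ∧ 16 * X j * X j - 12 * X j + 1 = 0 := fun {j} => Finset.mem_filter
    have hP2 : P.card ≤ 2 := by
      by_contra hlt
      obtain ⟨a, b, c, ha, hb, hc, hab, hac, hbc⟩ := Finset.two_lt_card_iff.1 (show 2 < P.card by omega)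
      rw [hPmem] at ha hb hc
      refine hdist b hb.1 c hc.1 hbc (mul_left_cancel₀ n4 ?_) hb.2
      linear_combination hpairsum a ha.1 b hb.1 hab ha.2 hb.2 - hpairsum a ha.1 c hc.1 hac ha.2 hc.2
    have hPpos : 1 ≤ P.card := Finset.card_pos.2 ⟨i₀, hPmem.2 ⟨hi₀, hφ₀⟩⟩
    have hq : ∀ j ∈ S \ P, 4 * X j = 1 := fun j hj => by
      rw [Finset.mem_sdiff] at hj
      exact (hico j hj.1).resolve_right fun h => hj.2 (hPmem.2 ⟨hj.1, h⟩)
    have hsub : P ⊆ S := Finset.filter_subset _ _
    have hsum4 : 4 * ∑ j ∈ P, X j + ((S.card - P.card : ℕ) : F) = 4 := by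
      have e := Finset.sum_sdiff (f := X) hsub
      rw [hsum] at e
      have e' : 4 * ∑ j ∈ S \ P, X j = ((S.card - P.card : ℕ) : F) := by
        rw [Finset.mul_sum, Finset.sum_congr rfl hq, Finset.sum_const, nsmul_one,
          Finset.card_sdiff_of_subset hsub]
      linear_combination 4 * e - e'
    rcases (show P.card = 1 ∨ P.card = 2 by omega) with h | h
    · obtain ⟨a, ha⟩ := Finset.card_eq_one.1 h
      have haP := hPmem.1 (ha ▸ Finset.mem_singleton_self a : a ∈ P)
      rw [h, ha, Finset.sum_singleton] at hsum4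
      rcases (show S.card = 4 ∨ S.card = 5 by omega) with e | e <;> rw [e] at hsum4 <;>
        norm_num at hsum4
      · exact ico_not_oct haP.2 (Or.inl (by linear_combination hsum4))
      · exact hX0 a haP.1 (hsum4.resolve_left n4)
    · obtain ⟨a, b, hab, he⟩ := Finset.card_eq_two.1 h
      have haP := hPmem.1 (he ▸ Finset.mem_insert_self a _ : a ∈ P)
      have hbP := hPmem.1 (he ▸ Finset.mem_insert_of_mem (Finset.mem_singleton_self b) : b ∈ P)
      rw [h, he, Finset.sum_pair hab] at hsum4
      have hp3 := hpairsum a haP.1 b hbP.1 hab haP.2 hbP.2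
      rcases (show S.card = 4 ∨ S.card = 5 by omega) with e | e <;> rw [e] at hsum4 <;>
        norm_num at hsum4
      · exact one_ne_zero (show (1 : F) = 0 by linear_combination hsum4 - hp3)
      · exact n2 (by linear_combination hsum4 - hp3)

end CfsgLib.Geo.OFrame
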