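import Cfsg.Agent.Geo.OrthFrame.Spheres

/-!
Two frame vectors and a third vector orthogonal to them, without spare coordinates.
-/

set_option autoImplicit false
set_option linter.unusedSectionVars false

namespace CfsgLib.Geo.OFrame

open QuadraticMap CfsgLib.Forms CfsgLib.Quad Matrix

variable {F : Type*} [Field F] [Finite F] [DecidableEq F] {n : ℕ} {H : Subgroup (O F n)}
variable {i k : Fin n} {f : Fin n → F}

/-- Two frame vectors and a third anisotropic vector orthogonal to them. -/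
structure Tr (H : Subgroup (O F n)) (i k : Fin n) (f : Fin n → F) : Prop extends Over H where
  ik : i ≠ k
  fi : f i = 0
  fk : f k = 0
  ff : f ⬝ᵥ f ≠ 0

namespace Tr

variable (hT : Tr H i k f)
include hT

theorem inY_e_i : InY i k f (e i) := ⟨1, 0, 0, by simp⟩

theorem inY_e_k : InY i k f (e k) := ⟨0, 1, 0, by simp⟩

theorem inY_f : InY i k f f := ⟨0, 0, 1, by simp⟩

theorem perp_dot {x y : Fin n → F} (hx : PerpY i k f x) (hy : InY i k f y) : x ⬝ᵥ y = 0 := by
  obtain ⟨a, b, z, rfl⟩ := hy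
  simp [dotProduct_add, dotProduct_smul, dot_e, hx.1, hx.2.1, hx.2.2]

theorem refl_inY {u y : Fin n → F} (hu : InY i k f u) (hy : InY i k f y) :
    InY i k f ((R u : O F n).1 y) := by
  obtain ⟨a, b, z, rfl⟩ := hu
  obtain ⟨a', b', z', rfl⟩ := hy
  rw [R_apply]
  set c := 2 * ((a' • e i + b' • e k + z' • f) ⬝ᵥ (a • e i + b • e k + z • f)) /
    ((a • e i + b • e k + z • f) ⬝ᵥ (a • e i + b • e k + z • f))
  exact ⟨a' - c * a, b' - c * b, z' - c * z, by module⟩

theorem split (x : Fin n → F) : ∃ y x', InY i k f y ∧ PerpY i k f x' ∧ x = y + x' := by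
  refine ⟨x i • e i + x k • e k + ((x ⬝ᵥ f) / (f ⬝ᵥ f)) • f, _, ⟨_, _, _, rfl⟩, ⟨?_, ?_, ?_⟩,
    (add_sub_cancel _ x).symm⟩
  · simp [e_apply, hT.ik, hT.fi]
  · simp [e_apply, hT.ik.symm, hT.fk]
  · simp [sub_dotProduct, add_dotProduct, smul_dotProduct, e_dot, hT.fi, hT.fk, div_mul_cancel₀ _ hT.ff]

theorem inY_of_perp {y : Fin n → F} (h : ∀ x, PerpY i k f x → y ⬝ᵥ x = 0) : InY i k f y := by
  obtain ⟨y₁, x₁, hy₁, hx₁, rfl⟩ := hT.split y
  suffices x₁ = 0 by simpa [this] using hy₁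
  funext t
  obtain ⟨y₂, x₂, hy₂, hx₂, he⟩ := hT.split (e t)
  rw [Pi.zero_apply, ← dot_e x₁ t, he, dotProduct_add, hT.perp_dot hx₁ hy₂, zero_add]
  have := h x₂ hx₂
  rwa [add_dotProduct, dotProduct_comm y₁, hT.perp_dot hx₂ hy₁, zero_add] at this

theorem fix_inY {g : O F n} (hg : g ∈ Fix H i k f) {y : Fin n → F} (hy : InY i k f y) :
    InY i k f (g.1 y) :=
  hT.inY_of_perp fun x hx => by
    rw [← hg.2 x hx, dot_map g hT.two, dotProduct_comm]; exact hT.perp_dot hx hy

theorem refl_fix {u : Fin n → F} (hu : InY i k f u) (huV : InV H u) : (R u : O F n) ∈ Fix H i k f :=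
  ⟨hT.toOver.refl_keep huV, fun _ hx => R_fix (hT.perp_dot hx hu)⟩

/-- A chain for a transformation of order `p` in the triangle's space. -/
theorem exists_chain (p : ℕ) [Fact p.Prime] [CharP F p] {h : O F n} (hh : h ∈ Fix H i k f)
    (hord : ∀ y, InY i k f y → (h ^ p).1 y = y) (hmove : ∃ y, InY i k f y ∧ h.1 y ≠ y) :
    ∃ x g w : Fin n → F, InY i k f x ∧ InY i k f g ∧ InY i k f w ∧
      h.1 x = x + g ∧ h.1 g = g + w ∧ h.1 w = w ∧
      w ⬝ᵥ w = 0 ∧ g ⬝ᵥ w = 0 ∧ g ⬝ᵥ g ≠ 0 ∧ x ⬝ᵥ w = -(g ⬝ᵥ g) ∧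
      ∀ y, InY i k f y → ∃ a b c : F, y = a • x + b • g + c • w := by
  set T : Module.End F (Fin n → F) := h.1.toLinearMap with hTdef
  have hTpow : ∀ t : ℕ, ∀ y, (T ^ t) y = (h ^ t).1 y := by
    intro t
    induction t with
    | zero => intro y; rw [pow_zero, pow_zero]; rfl
    | succ t ih => intro y; rw [pow_succ, pow_succ, mul_apply, Module.End.mul_apply, ih]; rfl
  set N : Module.End F (Fin n → F) := T - 1 with hN
  have hNa : ∀ y, N y = h.1 y - y := fun y => rfl
  have hNY : ∀ t : ℕ, ∀ y, InY i k f y → InY i k f ((N ^ t) y) := by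
    intro t
    induction t with
    | zero => exact fun y hy => hy
    | succ t ih =>
      intro y hy
      rw [pow_succ, Module.End.mul_apply, hNa]
      exact ih _ (mem_spY.1 (sub_mem (mem_spY.2 (hT.fix_inY hh hy)) (mem_spY.2 hy)))
  have hCh : CharP (Module.End F (Fin n → F)) p :=
    charP_of_injective_algebraMap (R := F) (fun a b hab => by
      have hab' := congrFun (DFunLike.congr_fun hab (e i)) i
      simpa [Module.algebraMap_end_apply, e_apply] using hab') p
  have hNp : ∀ y, InY i k f y → (N ^ p) y = 0 := by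
    intro y hy
    rw [hN, sub_pow_char_of_commute p (Commute.one_right T), one_pow, LinearMap.sub_apply, hTpow,
      hord y hy, Module.End.one_apply, sub_self]
  have hdot : ∀ a b, N a ⬝ᵥ b + a ⬝ᵥ N b + N a ⬝ᵥ N b = 0 := by
    intro a b
    rw [hNa, hNa]
    simp only [sub_dotProduct, dotProduct_sub]
    linear_combination dot_map h hT.two a b
  -- the square does not vanish
  have hN2 : ∃ y, InY i k f y ∧ N (N y) ≠ 0 := by
    by_contra hall
    push Not at hall
    obtain ⟨x₀, hx₀, hne⟩ := hmove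
    have himg : ∀ a b, InY i k f a → InY i k f b → N a ⬝ᵥ N b = 0 ∧ N a ⬝ᵥ b = -(a ⬝ᵥ N b) := by
      intro a b ha hb
      have h1 := hdot a (N b)
      rw [hall b hb, dotProduct_zero, dotProduct_zero, add_zero, add_zero] at h1
      exact ⟨h1, by linear_combination hdot a b - h1⟩
    set u := N x₀ with hu
    have huY : InY i k f u := by simpa using hNY 1 x₀ hx₀
    have hu0 : u ≠ 0 := fun h0 => hne (sub_eq_zero.1 (by rw [← hNa, ← hu, h0]))
    obtain ⟨z, hzY, hz⟩ : ∃ z, InY i k f z ∧ u ⬝ᵥ z ≠ 0 := by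
      by_contra hall'
      push Not at hall'
      refine hu0 (funext fun t => ?_)
      obtain ⟨y₂, x₂, hy₂, hx₂, he⟩ := hT.split (e t)
      rw [← dot_e u t, he, dotProduct_add, hall' _ hy₂, dotProduct_comm u x₂, hT.perp_dot hx₂ huY,
        add_zero, Pi.zero_apply]
    set w := N z with hw
    have hwY : InY i k f w := by simpa using hNY 1 z hzY
    have huu : u ⬝ᵥ u = 0 := (himg x₀ x₀ hx₀ hx₀).1
    have hww : w ⬝ᵥ w = 0 := (himg z z hzY hzY).1
    have huw : u ⬝ᵥ w = 0 := (himg x₀ z hx₀ hzY).1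
    have hwx : w ⬝ᵥ x₀ = -(u ⬝ᵥ z) := by
      rw [hw, (himg z x₀ hzY hx₀).2, dotProduct_comm z (N x₀)]
    have hux : u ⬝ᵥ x₀ = 0 := by
      have := (himg x₀ x₀ hx₀ hx₀).2
      rw [dotProduct_comm x₀, ← hu] at this
      exact (mul_eq_zero.1 (show (2 : F) * (u ⬝ᵥ x₀) = 0 by linear_combination this)).resolve_left
        hT.two
    have hwz : w ⬝ᵥ z = 0 := by
      have := (himg z z hzY hzY).2
      rw [dotProduct_comm z, ← hw] at this
      exact (mul_eq_zero.1 (show (2 : F) * (w ⬝ᵥ z) = 0 by linear_combination this)).resolve_left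
        hT.two
    let v : Fin 4 → spY i k f := ![⟨u, huY⟩, ⟨w, hwY⟩, ⟨x₀, hx₀⟩, ⟨z, hzY⟩]
    have hli : LinearIndependent F v := by
      rw [Fintype.linearIndependent_iff]
      intro c hc
      have hc' : c 0 • u + c 1 • w + c 2 • x₀ + c 3 • z = 0 := by
        have := congrArg Subtype.val hc
        simpa [v, Fin.sum_univ_four] using this
      have d1 := congrArg (u ⬝ᵥ ·) hc'
      have d2 := congrArg (w ⬝ᵥ ·) hc'
      simp only [dotProduct_add, dotProduct_smul, dotProduct_zero, smul_eq_mul, huu, huw, hux, hww,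
        hwx, hwz, dotProduct_comm w u, mul_zero, zero_add, add_zero] at d1 d2
      have c3 : c 3 = 0 := (mul_eq_zero.1 d1).resolve_right hz
      have c2 : c 2 = 0 := (mul_eq_zero.1 d2).resolve_right (neg_ne_zero.2 hz)
      rw [c2, c3, zero_smul, zero_smul, add_zero, add_zero] at hc'
      have d3 := congrArg (z ⬝ᵥ ·) hc'
      have d4 := congrArg (x₀ ⬝ᵥ ·) hc'
      simp only [dotProduct_add, dotProduct_smul, dotProduct_zero, smul_eq_mul, dotProduct_comm z u,
        dotProduct_comm z w, dotProduct_comm x₀ u, dotProduct_comm x₀ w, hwz, hux, hwx, mul_zero,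
        zero_add, add_zero] at d3 d4
      have c0 : c 0 = 0 := (mul_eq_zero.1 d3).resolve_right hz
      have c1 : c 1 = 0 := (mul_eq_zero.1 d4).resolve_right (neg_ne_zero.2 hz)
      intro t
      fin_cases t <;> assumption
    have := hli.fintype_card_le_finrank.trans finrank_spY_le
    simp at this
  -- a chain of length three
  obtain ⟨y₀, hy₀, hy₀2⟩ := hN2
  classical
  have hex : ∃ t : ℕ, (N ^ (t + 3)) y₀ = 0 := by
    refine ⟨p, ?_⟩
    rw [pow_add, Module.End.mul_apply]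
    exact hNp _ (hNY 3 y₀ hy₀)
  have hx3 : ∃ x, InY i k f x ∧ N (N x) ≠ 0 ∧ N (N (N x)) = 0 := by
    have hspec := Nat.find_spec hex
    have hrw : ∀ t : ℕ, (N ^ (t + 2)) y₀ = N (N ((N ^ t) y₀)) := fun t => by
      rw [pow_succ', pow_succ', Module.End.mul_apply, Module.End.mul_apply]
    refine ⟨(N ^ Nat.find hex) y₀, hNY _ _ hy₀, ?_, ?_⟩
    · rw [← hrw]
      rcases Nat.eq_zero_or_pos (Nat.find hex) with h0 | hpos
      · rw [h0, hrw]; exact hy₀2
      · have := Nat.find_min hex (Nat.sub_lt hpos Nat.one_pos)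
        rwa [show Nat.find hex - 1 + 3 = Nat.find hex + 2 by omega] at this
    · rwa [← hrw, ← Module.End.mul_apply, ← pow_succ']
  obtain ⟨x, hxY, hw0, hN3⟩ := hx3
  set g := N x with hg
  set w := N g with hw
  have hgY : InY i k f g := by simpa using hNY 1 x hxY
  have hwY : InY i k f w := by simpa using hNY 1 g hgY
  have hgw : g ⬝ᵥ w = 0 ∧ w ⬝ᵥ w = 0 := by
    have h1 := hdot g g
    have h2 := hdot g w
    rw [← hw, hN3, dotProduct_zero, dotProduct_zero, add_zero, add_zero] at h2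
    rw [← hw, h2, add_zero, dotProduct_comm w g] at h1
    exact ⟨(mul_eq_zero.1 (show (2 : F) * (g ⬝ᵥ w) = 0 by linear_combination h1)).resolve_left hT.two, h2⟩
  have hxw : x ⬝ᵥ w = -(g ⬝ᵥ g) := by
    have h1 := hdot x g
    rw [← hg, ← hw, hgw.1, add_zero] at h1
    linear_combination h1
  have hxg : 2 * (x ⬝ᵥ g) = -(g ⬝ᵥ g) := by
    have h1 := hdot x x
    rw [← hg, dotProduct_comm g x] at h1
    linear_combination h1
  have hli : LinearIndependent F (![⟨x, hxY⟩, ⟨g, hgY⟩, ⟨w, hwY⟩] : Fin 3 → spY i k f) := by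
    rw [Fintype.linearIndependent_iff]
    intro c hc
    have hc' : c 0 • x + c 1 • g + c 2 • w = 0 := by
      have := congrArg Subtype.val hc
      simpa [Fin.sum_univ_three] using this
    have e1 := congrArg N hc'
    rw [map_add, map_add, map_smul, map_smul, map_smul, ← hg, ← hw, hN3, smul_zero, add_zero,
      map_zero] at e1
    have e2 := congrArg N e1
    rw [map_add, map_smul, map_smul, ← hw, hN3, smul_zero, add_zero, map_zero] at e2
    have c0 : c 0 = 0 := (smul_eq_zero.1 e2).resolve_right hw0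
    rw [c0, zero_smul, zero_add] at e1
    have c1 : c 1 = 0 := (smul_eq_zero.1 e1).resolve_right hw0
    rw [c0, c1, zero_smul, zero_smul, zero_add, zero_add] at hc'
    have c2 : c 2 = 0 := (smul_eq_zero.1 hc').resolve_right hw0
    intro t
    fin_cases t <;> assumption
  have hspan : ∀ y, InY i k f y → ∃ a b c : F, y = a • x + b • g + c • w := by
    intro y hy
    have htop := hli.span_eq_top_of_card_eq_finrank'
      (le_antisymm hli.fintype_card_le_finrank (by simpa using finrank_spY_le))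
    have := (Submodule.mem_span_range_iff_exists_fun F).1 (htop ▸ Submodule.mem_top (x := (⟨y, hy⟩ : spY i k f)))
    obtain ⟨c, hc⟩ := this
    refine ⟨c 0, c 1, c 2, ?_⟩
    have := congrArg Subtype.val hc
    simpa [Fin.sum_univ_three] using this.symm
  refine ⟨x, g, w, hxY, hgY, hwY, ?_, ?_, ?_, hgw.2, hgw.1, fun h0 => ?_, hxw, hspan⟩
  · rw [hg, hNa]; abel
  · rw [hw, hNa]; abel
  · exact sub_eq_zero.1 (by rw [← hNa, hN3])
  · refine hw0 (funext fun t => ?_)
    obtain ⟨y₂, x₂, hy₂, hx₂, he⟩ := hT.split (e t)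
    obtain ⟨a, b, c, rfl⟩ := hspan y₂ hy₂
    rw [← dot_e w t, he, dotProduct_add, dotProduct_comm w x₂, hT.perp_dot hx₂ hwY, add_zero,
      dotProduct_comm, add_dotProduct, add_dotProduct, smul_dotProduct, smul_dotProduct, smul_dotProduct,
      hxw, h0, hgw.1, hgw.2]
    simp


theorem shears_of_chain (p : ℕ) [Fact p.Prime] [CharP F p] (hcard : Nat.card F = p) {h : O F n}
    (hh : h ∈ Fix H i k f) {x g w : Fin n → F} (hx : h.1 x = x + g) (hg : h.1 g = g + w)
    (hw : h.1 w = w) (hww : w ⬝ᵥ w = 0) (hgw : g ⬝ᵥ w = 0) (hgg : g ⬝ᵥ g ≠ 0)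
    (hxw : x ⬝ᵥ w = -(g ⬝ᵥ g)) (hspan : ∀ y, InY i k f y → ∃ a b c : F, y = a • x + b • g + c • w) :
    Shears H i k f w := by
  intro y y' hy hy' hnorm hyw hne
  obtain ⟨a, b, c, rfl⟩ := hspan y hy
  obtain ⟨a', b', c', rfl⟩ := hspan y' hy'
  have haeq : a = a' := by
    simp only [add_dotProduct, smul_dotProduct, smul_eq_mul, hww, hgw, hxw, mul_zero, add_zero] at hyw
    exact mul_right_cancel₀ (neg_ne_zero.2 hgg) hyw
  subst haeq
  have ha : a ≠ 0 := fun h0 => hne (by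
    simp [add_dotProduct, smul_dotProduct, hww, hgw, h0])
  have hpow : ∀ t : ℕ, ∃ d : F, (h ^ t).1 (a • x + b • g + c • w) = a • x + (b + t * a) • g + d • w := by
    intro t
    induction t with
    | zero => exact ⟨c, by simp [one_apply]⟩
    | succ t ih =>
      obtain ⟨d, hd⟩ := ih
      refine ⟨d + (b + t * a), ?_⟩
      rw [pow_succ', mul_apply, hd, map_add, map_add, map_smul, map_smul, map_smul, hx, hg, hw]
      push_cast
      module
  obtain ⟨t, ht⟩ := prime_field_natCast (p := p) hcard ((b' - b) / a)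
  obtain ⟨d, hd⟩ := hpow t
  refine ⟨h ^ t, pow_mem hh t, ?_⟩
  rw [ht, div_mul_cancel₀ _ ha, add_sub_cancel] at hd
  rw [hd]
  have h1 := self_map (h ^ t) (a • x + b • g + c • w)
  rw [hd, hnorm] at h1
  simp only [add_dotProduct, dotProduct_add, smul_dotProduct, dotProduct_smul, smul_eq_mul,
    dotProduct_comm g x, dotProduct_comm w x, dotProduct_comm w g, hww, hgw, hxw] at h1
  have hdc : d = c' := by
    refine mul_left_cancel₀ (mul_ne_zero (mul_ne_zero hT.two ha) (neg_ne_zero.2 hgg)) ?_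
    linear_combination h1
  rw [hdc]

theorem shears_refl {u w : Fin n → F} (hu : InY i k f u) (huV : InV H u) (hw : Shears H i k f w) :
    Shears H i k f ((R u : O F n).1 w) := by
  intro y y' hy hy' hnorm hyw hne
  have hr := hT.refl_fix hu huV
  have key : ∀ z, z ⬝ᵥ (R u : O F n).1 w = (R u : O F n).1 z ⬝ᵥ w := fun z => by
    conv_lhs => rw [← one_apply z, ← R_sq u, mul_apply, dot_map _ hT.two]
  rw [key, key] at hyw
  rw [key] at hne
  obtain ⟨g, hg, hgy⟩ := hw _ _ (hT.fix_inY hr hy) (hT.fix_inY hr hy')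
    (by rw [self_map, self_map, hnorm]) hyw hne
  refine ⟨R u * g * R u, mul_mem (mul_mem hr hg) hr, ?_⟩
  rw [mul_apply, mul_apply, hgy, ← mul_apply, R_sq, one_apply]

/-- An element of order `p` on the space makes the stabiliser transitive on spheres. -/
theorem transitive (p : ℕ) [Fact p.Prime] [CharP F p] (hcard : Nat.card F = p) (hp : 5 ≤ p) {h : O F n}
    (hh : h ∈ Fix H i k f) (hord : ∀ y, InY i k f y → (h ^ p).1 y = y)
    (hmove : ∃ y, InY i k f y ∧ h.1 y ≠ y)
    {y y' : Fin n → F} (hy : InY i k f y) (hy' : InY i k f y') (hnorm : y ⬝ᵥ y = y' ⬝ᵥ y')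
    (hne : y ⬝ᵥ y ≠ 0) : Linked H i k f y y' := by
  obtain ⟨x, g, w, hxY, hgY, hwY, hx, hg, hw, hww, hgw, hgg, hxw, hspan⟩ :=
    hT.exists_chain p hh hord hmove
  have hS := hT.shears_of_chain p hcard hh hx hg hw hww hgw hgg hxw hspan
  have hw0 : w ≠ 0 := fun h0 => hgg (neg_eq_zero.1 (by rw [← hxw, h0, dotProduct_zero]))
  -- an orthogonal pair of frame vectors adapted to `w`
  obtain ⟨wi, wk, wf, hweq⟩ := hwY
  have hwnorm : wi * wi + wk * wk + wf * wf * (f ⬝ᵥ f) = 0 := by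
    have := hww
    rw [hweq] at this
    simp [add_dotProduct, dotProduct_add, smul_dotProduct, dotProduct_smul, dot_e, e_dot, e_apply,
      hT.ik, hT.ik.symm, hT.fi, hT.fk] at this
    linear_combination this
  obtain ⟨u, u', hcase, hwu⟩ : ∃ u u' : Fin n → F,
      (u = e i ∧ u' = e k ∨ u = e k ∧ u' = e i) ∧ w ⬝ᵥ u ≠ 0 := by
    by_cases h1 : wi = 0
    · by_cases h2 : wk = 0
      · rw [h1, h2] at hwnorm
        have h3 : wf = 0 := by
          rcases mul_eq_zero.1 (show wf * wf * (f ⬝ᵥ f) = 0 by linear_combination hwnorm) with h | h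
          · exact mul_self_eq_zero.1 h
          · exact absurd h hT.ff
        exact absurd (by rw [hweq, h1, h2, h3]; simp) hw0
      · exact ⟨e k, e i, Or.inr ⟨rfl, rfl⟩, by
          rw [hweq]; simp [e_apply, dot_e, hT.ik.symm, hT.fk, h2]⟩
    · exact ⟨e i, e k, Or.inl ⟨rfl, rfl⟩, by
        rw [hweq]; simp [e_apply, dot_e, hT.ik, hT.fi, h1]⟩
  have hu : InY i k f u ∧ InV H u ∧ InY i k f u' ∧ u ⬝ᵥ u = 1 ∧ u' ⬝ᵥ u' = 1 ∧ u ⬝ᵥ u' = 0 ∧
      u ⬝ᵥ f = 0 ∧ u' ⬝ᵥ f = 0 := by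
    rcases hcase with ⟨rfl, rfl⟩ | ⟨rfl, rfl⟩
    · exact ⟨hT.inY_e_i, hT.inV_e i, hT.inY_e_k, ee i, ee k, ee_ne hT.ik, by rw [e_dot, hT.fi],
        by rw [e_dot, hT.fk]⟩
    · exact ⟨hT.inY_e_k, hT.inV_e k, hT.inY_e_i, ee k, ee i, ee_ne hT.ik.symm, by rw [e_dot, hT.fk],
        by rw [e_dot, hT.fi]⟩
  obtain ⟨huY, huV, hu'Y, huu, hu'u', huu', huf, hu'f⟩ := hu
  obtain ⟨α, α', ζ, hwdec⟩ : ∃ α α' ζ : F, w = α • u + α' • u' + ζ • f := by
    rcases hcase with ⟨rfl, rfl⟩ | ⟨rfl, rfl⟩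
    · exact ⟨wi, wk, wf, hweq⟩
    · exact ⟨wk, wi, wf, by rw [hweq, add_comm (wi • _)]⟩
  have hwu' : w ⬝ᵥ u = α := by
    rw [hwdec]; simp [add_dotProduct, smul_dotProduct, huu, dotProduct_comm u' u, huu',
      dotProduct_comm f u, huf]
  rw [hwu'] at hwu
  set β := f ⬝ᵥ f with hβ
  have hdet : ζ * ζ * β + α' * α' = -(α * α) := by
    have := hww
    rw [hwdec] at this
    simp [add_dotProduct, dotProduct_add, smul_dotProduct, dotProduct_smul, huu, hu'u', huu', huf, hu'f,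
      dotProduct_comm u' u, dotProduct_comm f u, dotProduct_comm f u', ← hβ] at this
    linear_combination this
  set w' := (R u : O F n).1 w with hw'
  have hwwY : InY i k f w := ⟨wi, wk, wf, hweq⟩
  have hr := hT.refl_fix huY huV
  have hS' : Shears H i k f w' := hT.shears_refl huY huV hS
  have hw'eq : w' = w - (2 * α) • u := by rw [hw', R_apply, hwu', huu, div_one]
  have hw'Y : InY i k f w' := hT.fix_inY hr hwwY
  have hw'w' : w' ⬝ᵥ w' = 0 := by rw [hw', self_map, hww]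
  have hδ : w ⬝ᵥ w' = -(2 * (α * α)) := by
    rw [hw'eq, dotProduct_sub, dotProduct_smul, hww, hwu', smul_eq_mul]; ring
  set g₀ := (ζ * β) • u' + (-α') • f with hg₀
  have hg₀Y : InY i k f g₀ := mem_spY.1 (add_mem (Submodule.smul_mem _ _ (mem_spY.2 hu'Y))
    (Submodule.smul_mem _ _ (mem_spY.2 hT.inY_f)))
  have hg₀u : g₀ ⬝ᵥ u = 0 := by
    rw [hg₀, add_dotProduct, smul_dotProduct, smul_dotProduct, dotProduct_comm u' u, huu',
      dotProduct_comm f u, huf]
    simp
  have hg₀w : g₀ ⬝ᵥ w = 0 := by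
    rw [hg₀, hwdec]
    simp [add_dotProduct, dotProduct_add, smul_dotProduct, dotProduct_smul, huu, hu'u', huu', huf, hu'f,
      dotProduct_comm u' u, dotProduct_comm f u, dotProduct_comm f u', ← hβ]
    ring
  have hg₀w' : g₀ ⬝ᵥ w' = 0 := by
    rw [hw'eq, dotProduct_sub, dotProduct_smul, hg₀w, hg₀u]; simp
  set γ₀ := g₀ ⬝ᵥ g₀ with hγ₀
  have hγ₀e : γ₀ = -(β * (α * α)) := by
    rw [hγ₀, hg₀]
    simp [add_dotProduct, dotProduct_add, smul_dotProduct, dotProduct_smul, hu'u', hu'f,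
      dotProduct_comm f u', ← hβ]
    linear_combination β * hdet
  have hγ₀0 : γ₀ ≠ 0 := by
    rw [hγ₀e]; exact neg_ne_zero.2 (mul_ne_zero hT.ff (mul_ne_zero hwu hwu))
  set δ := w ⬝ᵥ w' with hδdef
  have hδ0 : δ ≠ 0 := by
    rw [hδ]; exact neg_ne_zero.2 (mul_ne_zero hT.two (mul_ne_zero hwu hwu))
  -- coordinates with respect to `w`, `w'`, `g₀`
  set pt : F → F → F → (Fin n → F) :=
    fun A A' z => (A' / δ) • w + (A / δ) • w' + z • g₀ with hpt
  have hptY : ∀ A A' z, InY i k f (pt A A' z) := fun A A' z =>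
    mem_spY.1 (add_mem (add_mem (Submodule.smul_mem _ _ (mem_spY.2 hwwY))
      (Submodule.smul_mem _ _ (mem_spY.2 hw'Y))) (Submodule.smul_mem _ _ (mem_spY.2 hg₀Y)))
  have hptd : ∀ A A' z, pt A A' z ⬝ᵥ w = A ∧ pt A A' z ⬝ᵥ w' = A' ∧ pt A A' z ⬝ᵥ g₀ = z * γ₀ ∧
      pt A A' z ⬝ᵥ pt A A' z = 2 * A * A' / δ + z * z * γ₀ := by
    intro A A' z
    simp only [hpt, add_dotProduct, dotProduct_add, smul_dotProduct, dotProduct_smul, smul_eq_mul,
      dotProduct_comm w' w, ← hδdef, hww, hw'w', hg₀w, hg₀w', dotProduct_comm w g₀,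
      dotProduct_comm w' g₀, ← hγ₀, mul_zero, add_zero, zero_add]
    refine ⟨div_mul_cancel₀ _ hδ0, div_mul_cancel₀ _ hδ0, True.intro, ?_⟩
    field_simp
    ring
  have hrec : ∀ y, InY i k f y → y = pt (y ⬝ᵥ w) (y ⬝ᵥ w') (y ⬝ᵥ g₀ / γ₀) := by
    intro y hyY
    obtain ⟨h1, h2, h3, -⟩ := hptd (y ⬝ᵥ w) (y ⬝ᵥ w') (y ⬝ᵥ g₀ / γ₀)
    rw [div_mul_cancel₀ _ hγ₀0] at h3
    refine sub_eq_zero.1 ?_
    set q := y - pt (y ⬝ᵥ w) (y ⬝ᵥ w') (y ⬝ᵥ g₀ / γ₀) with hq
    have hqY : InY i k f q := mem_spY.1 (sub_mem (mem_spY.2 hyY) (mem_spY.2 (hptY _ _ _)))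
    clear_value q
    obtain ⟨qa, qb, qc, hqd⟩ : ∃ qa qb qc : F, q = qa • u + qb • u' + qc • f := by
      obtain ⟨A, B, C, hABC⟩ := hqY
      rcases hcase with ⟨rfl, rfl⟩ | ⟨rfl, rfl⟩
      · exact ⟨A, B, C, hABC⟩
      · exact ⟨B, A, C, hABC.trans (by rw [add_comm (A • _)])⟩
    have q1 : q ⬝ᵥ w = 0 := by rw [hq, sub_dotProduct, h1, sub_self]
    have q2 : q ⬝ᵥ w' = 0 := by rw [hq, sub_dotProduct, h2, sub_self]
    have q3 : q ⬝ᵥ g₀ = 0 := by rw [hq, sub_dotProduct, h3, sub_self]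
    have qu : q ⬝ᵥ u = 0 := by
      rw [hw'eq, dotProduct_sub, dotProduct_smul, q1, zero_sub, neg_eq_zero, smul_eq_mul] at q2
      exact (mul_eq_zero.1 q2).resolve_left (mul_ne_zero hT.two hwu)
    have hqa : qa = 0 := by
      rw [hqd] at qu
      simpa [add_dotProduct, smul_dotProduct, huu, dotProduct_comm u' u, huu', dotProduct_comm f u, huf]
        using qu
    rw [hqd, hwdec] at q1
    rw [hqd, hg₀] at q3
    simp [add_dotProduct, dotProduct_add, smul_dotProduct, dotProduct_smul, huu, hu'u', huu', huf, hu'f,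
      dotProduct_comm u' u, dotProduct_comm f u, dotProduct_comm f u', ← hβ, hqa] at q1 q3
    have hαα : ζ * ζ * β + α' * α' ≠ 0 := by
      rw [hdet]; exact neg_ne_zero.2 (mul_ne_zero hwu hwu)
    have hqb : qb = 0 := (mul_eq_zero.1 (show (ζ * ζ * β + α' * α') * qb = 0 by
      linear_combination α' * q1 + ζ * q3)).resolve_left hαα
    have hqc : qc = 0 := (mul_eq_zero.1 (show (β * (ζ * ζ * β + α' * α')) * qc = 0 by
      linear_combination (ζ * β) * q1 - α' * q3)).resolve_left (mul_ne_zero hT.ff hαα)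
    rw [hqd, hqa, hqb, hqc]
    simp
  -- every vector of the sphere is linked to one off the orthogonal of `w`
  set C := y ⬝ᵥ y with hC
  have hslide : ∀ z, InY i k f z → z ⬝ᵥ z = C → ∃ z', Linked H i k f z z' ∧ InY i k f z' ∧
      z' ⬝ᵥ w ≠ 0 := by
    intro z hzY hz
    by_cases h1 : z ⬝ᵥ w = 0
    · by_cases h2 : z ⬝ᵥ w' = 0
      · -- move off with `h`
        refine ⟨(R u * h : O F n).1 z, ⟨_, mul_mem hr hh, rfl⟩,
          hT.fix_inY (mul_mem hr hh) hzY, fun h0 => hne ?_⟩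
        have hz1 : z = (z ⬝ᵥ g₀ / γ₀) • g₀ := by
          conv_lhs => rw [hrec z hzY, h1, h2]
          simp [hpt]
        have hhz : InY i k f (h.1 z) := hT.fix_inY hh hzY
        have e1 : h.1 z ⬝ᵥ w = 0 := by
          rw [← h1]; conv_lhs => rw [← hw, dot_map h hT.two]
        have e2 : h.1 z ⬝ᵥ w' = 0 := by
          rw [← h0, mul_apply]
          conv_rhs => rw [← dot_map (R u) hT.two, ← mul_apply, R_sq, one_apply]
        have hz2 : h.1 z = (h.1 z ⬝ᵥ g₀ / γ₀) • g₀ := by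
          conv_lhs => rw [hrec _ hhz, e1, e2]
          simp [hpt]
        set ν := z ⬝ᵥ g₀ / γ₀ with hν
        have hν0 : ν ≠ 0 := fun h' => hne (by rw [← hz, hz1, h', zero_smul, zero_dotProduct])
        obtain ⟨μ, hmu⟩ : ∃ μ : F, h.1 z = μ • z := by
          refine ⟨h.1 z ⬝ᵥ g₀ / γ₀ / ν, hz2.trans (Eq.symm ?_)⟩
          calc (h.1 z ⬝ᵥ g₀ / γ₀ / ν) • z = (h.1 z ⬝ᵥ g₀ / γ₀ / ν) • (ν • g₀) := congrArg _ hz1
            _ = _ := by rw [smul_smul, div_mul_cancel₀ _ hν0]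
        obtain ⟨A, B, C', hzd⟩ := hspan z hzY
        rw [hzd, map_add, map_add, map_smul, map_smul, map_smul, hx, hg, hw] at hmu
        have t1 := congrArg (· ⬝ᵥ w) hmu
        simp [add_dotProduct, smul_dotProduct, hww, hgw, hxw] at t1
        have t2 := congrArg (· ⬝ᵥ g) hmu
        simp [add_dotProduct, smul_dotProduct, dotProduct_comm w g, hgw] at t2
        have hA : A * (μ - 1) = 0 := (mul_eq_zero.1 (show A * (μ - 1) * (g ⬝ᵥ g) = 0 by
          linear_combination -t1)).resolve_right hgg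
        rcases mul_eq_zero.1 hA with hA0 | hμ1
        · -- orthogonal to `w` inside the span of `g, w`
          subst hA0
          have t3 := congrArg (· ⬝ᵥ x) hmu
          simp [add_dotProduct, smul_dotProduct, dotProduct_comm g x, dotProduct_comm w x, hxw] at t3
          rcases mul_eq_zero.1 ((mul_eq_zero.1 (show B * (μ - 1) * (g ⬝ᵥ g) = 0 by
            linear_combination -t2)).resolve_right hgg) with hB | hμ1
          · rw [← hz, hzd, hB]
            simp [smul_dotProduct, dotProduct_smul, hww]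
          · rw [sub_eq_zero] at hμ1
            rw [hμ1] at t3
            have hB : B = 0 := (mul_eq_zero.1 (show B * (g ⬝ᵥ g) = 0 by
              linear_combination -t3)).resolve_right hgg
            rw [← hz, hzd, hB]
            simp [smul_dotProduct, dotProduct_smul, hww]
        · rw [sub_eq_zero] at hμ1
          subst hμ1
          have hA0 : A = 0 := (mul_eq_zero.1 (show A * (g ⬝ᵥ g) = 0 by
            linear_combination t2)).resolve_right hgg
          subst hA0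
          have t3 := congrArg (· ⬝ᵥ x) hmu
          simp [add_dotProduct, smul_dotProduct, dotProduct_comm g x, dotProduct_comm w x, hxw] at t3
          have hB : B = 0 := t3.resolve_right hgg
          rw [← hz, hzd, hB]
          simp [smul_dotProduct, dotProduct_smul, hww]
      · refine ⟨(R u : O F n).1 z, ⟨_, hr, rfl⟩, hT.fix_inY hr hzY, ?_⟩
        rwa [← one_apply z, ← R_sq u, mul_apply, hw', dot_map _ hT.two] at h2
    · exact ⟨z, ⟨1, one_mem _, rfl⟩, hzY, h1⟩
  -- the class of a point depends only on its section, and is then constant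
  let P : Fˣ → Fˣ → Prop := fun A B => ∀ z z', InY i k f z → InY i k f z' → z ⬝ᵥ z = C → z' ⬝ᵥ z' = C →
    z ⬝ᵥ w = A → z' ⬝ᵥ w = B → Linked H i k f z z'
  have hPrefl : ∀ A, P A A := fun A z z' hzY hz'Y hz hz' hA hA' =>
    hS z z' hzY hz'Y (hz.trans hz'.symm) (hA.trans hA'.symm) (hA ▸ A.ne_zero)
  -- a point for every section
  have hpoint : ∀ (A : Fˣ) (z : F), InY i k f (pt A (δ * (C - z * z * γ₀) / (2 * A)) z) ∧
      pt A (δ * (C - z * z * γ₀) / (2 * A)) z ⬝ᵥ pt A (δ * (C - z * z * γ₀) / (2 * A)) z = C := by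
    intro A z
    refine ⟨hptY _ _ _, ?_⟩
    rw [(hptd _ _ _).2.2.2]
    have := hT.two
    have := A.ne_zero
    field_simp
    ring
  let M : Subgroup Fˣ :=
    { carrier := {s | ∀ A, P A (A * s)}
      one_mem' := fun A => by rw [mul_one]; exact hPrefl A
      mul_mem' := fun {s t} hs ht A z z' hzY hz'Y hz hz' hA hA' => by
        obtain ⟨hmY, hm⟩ := hpoint (A * s) 0
        exact (hs A z _ hzY hmY hz hm hA (hptd _ _ _).1).trans
          (ht (A * s) _ z' hmY hz'Y hm hz' (hptd _ _ _).1 (by rw [mul_assoc]; exact hA'))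
      inv_mem' := fun {s} hs A z z' hzY hz'Y hz hz' hA hA' =>
        (hs (A * s⁻¹) z' z hz'Y hzY hz' hz hA' (by rw [inv_mul_cancel_right]; exact hA)).symm }
  have hCne : C ≠ 0 := hne
  have hMtop : M = ⊤ := by
    refine eq_top_of_sub_sq (p := p) hcard hp (κ := γ₀ / C) (div_ne_zero hγ₀0 hCne) ?_
    intro ζ' s hs A z z' hzY hz'Y hz hz' hA hA'
    -- compare two points on one section of `w'`
    have hA0 := A.ne_zero
    have hs0 := s.ne_zero
    obtain ⟨h1Y, h1⟩ := hpoint A 0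
    obtain ⟨h2Y, h2⟩ := hpoint (A * s) ζ'
    refine ((hPrefl A _ _ hzY h1Y hz h1 hA (hptd _ _ _).1).trans ?_).trans
      (hPrefl (A * s) _ _ h2Y hz'Y h2 hz' (hptd _ _ _).1 hA')
    have hsC : C - ζ' * ζ' * γ₀ = C * (s : F) := by
      rw [hs]; field_simp
    refine hS' _ _ h1Y h2Y (h1.trans h2.symm) ?_ ?_
    · rw [(hptd _ _ _).2.1, (hptd _ _ _).2.1, hsC, Units.val_mul]
      have := hT.two
      field_simp
      ring
    · rw [(hptd _ _ _).2.1]
      simp [hδ0, hCne, hT.two]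
  obtain ⟨z, hz1, hzY, hz⟩ := hslide y hy rfl
  obtain ⟨z', hz1', hz'Y, hz'⟩ := hslide y' hy' hnorm.symm
  have hzC : ∀ {z₀ z₁}, Linked H i k f z₀ z₁ → z₁ ⬝ᵥ z₁ = z₀ ⬝ᵥ z₀ := fun ⟨_, _, he⟩ =>
    he ▸ self_map _ _
  have hmem : (Units.mk0 _ hz)⁻¹ * Units.mk0 _ hz' ∈ M := hMtop ▸ Subgroup.mem_top _
  exact (hz1.trans (hmem (Units.mk0 _ hz) z z' hzY hz'Y (hzC hz1)
    ((hzC hz1').trans hnorm.symm) rfl (by rw [mul_inv_cancel_left]; rfl))).trans hz1'.symm


section model

variable {K : Type*} [Field K] (φ : F →+* K) (I s : K)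


theorem anticomm (hI : I * I = -1) (hs : s * s * φ (f ⬝ᵥ f) = 1) {u y : Fin n → F}
    (hu : InY i k f u) (hy : InY i k f y) :
    Tri.mat φ I s i k f u * Tri.mat φ I s i k f y + Tri.mat φ I s i k f y * Tri.mat φ I s i k f u =
      (2 * φ (u ⬝ᵥ y)) • (1 : Matrix (Fin 2) (Fin 2) K) := by
  obtain ⟨a, b, z, rfl⟩ := hu
  obtain ⟨a', b', z', rfl⟩ := hy
  have hd : (a • e i + b • e k + z • f) ⬝ᵥ (a' • e i + b' • e k + z' • f) =
      a * a' + b * b' + z * z' * (f ⬝ᵥ f) := by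
    simp [add_dotProduct, dotProduct_add, smul_dotProduct, dotProduct_smul, dot_e, e_dot, e_apply,
      hT.ik, hT.ik.symm, hT.fi, hT.fk]
    ring
  rw [hd]
  simp only [Tri.mat, Pi.add_apply, Pi.smul_apply, e_apply, if_pos, if_neg hT.ik, if_neg hT.ik.symm, hT.fi,
    hT.fk, add_dotProduct, smul_dotProduct, e_dot, smul_eq_mul, mul_one, mul_zero, add_zero, zero_add]
  ext x y'
  have key : I * I * (s * s * φ (f ⬝ᵥ f)) = -1 := by rw [hI, hs]; ring
  fin_cases x <;> fin_cases y' <;> simp [Matrix.mul_apply, map_add, map_mul] <;>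
    first
      | linear_combination (-2 * φ z * φ z' * φ (f ⬝ᵥ f)) * key
      | linear_combination (2 * φ z * φ z' * φ (f ⬝ᵥ f)) * key
      | linear_combination (0 : K) * key

theorem mat_inj (hI : I * I = -1) (hs : s * s * φ (f ⬝ᵥ f) = 1) {u y : Fin n → F} (hu : InY i k f u)
    (hy : InY i k f y) (h : Tri.mat φ I s i k f u = Tri.mat φ I s i k f y) : u = y := by
  have h2 : (2 : K) ≠ 0 := fun h0 => hT.two ((map_eq_zero φ).1 (by rw [map_ofNat]; exact h0))
  obtain ⟨a, b, z, rfl⟩ := hu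
  obtain ⟨a', b', z', rfl⟩ := hy
  have e00 := congrFun (congrFun h 0) 0
  have e01 := congrFun (congrFun h 0) 1
  have e10 := congrFun (congrFun h 1) 0
  simp [Tri.mat, e_apply, e_dot, hT.ik, hT.ik.symm, hT.fi, hT.fk, add_dotProduct, smul_dotProduct] at e00 e01 e10
  have hb : φ b = φ b' := mul_left_cancel₀ h2 (by linear_combination e01 + e10)
  have hIs : I * s * φ (f ⬝ᵥ f) ≠ 0 := by
    refine mul_ne_zero (mul_ne_zero (fun h0 => ?_) fun h0 => ?_) ((map_ne_zero φ).2 hT.ff)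
    · rw [h0, mul_zero] at hI
      exact one_ne_zero (by linear_combination hI : (1 : K) = 0)
    · rw [h0, mul_zero, zero_mul] at hs
      exact zero_ne_one hs
  have hz : φ z = φ z' := mul_left_cancel₀ (mul_ne_zero h2 hIs) (by linear_combination e01 - e10)
  rw [φ.injective (show φ a = φ a' from e00), φ.injective hb, φ.injective hz]


theorem central_of_commute {G : GL (Fin 2) K}
    (h : ∀ y, InY i k f y → (G : Matrix (Fin 2) (Fin 2) K) * Tri.mat φ I s i k f y =
      Tri.mat φ I s i k f y * (G : Matrix (Fin 2) (Fin 2) K)) :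
    Matrix.ProjGenLinGroup.mk G = 1 := by
  have h2 : (2 : K) ≠ 0 := fun h0 => hT.two ((map_eq_zero φ).1 (by rw [map_ofNat]; exact h0))
  have hi := h _ hT.inY_e_i
  have hk := h _ hT.inY_e_k
  simp [Tri.mat, e_apply, e_dot, hT.ik, hT.ik.symm, hT.fi, hT.fk] at hi hk
  have i01 := congrFun (congrFun hi 0) 1
  have i10 := congrFun (congrFun hi 1) 0
  have k01 := congrFun (congrFun hk 0) 1
  simp [Matrix.mul_apply, Matrix.vecMul, dotProduct, Fin.sum_univ_two] at i01 i10 k01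
  have a01 : (G : Matrix (Fin 2) (Fin 2) K) 0 1 = 0 := (mul_eq_zero.1
    (show (2 : K) * _ = 0 by linear_combination -i01)).resolve_left h2
  have a10 : (G : Matrix (Fin 2) (Fin 2) K) 1 0 = 0 := (mul_eq_zero.1
    (show (2 : K) * _ = 0 by linear_combination i10)).resolve_left h2
  rw [Matrix.ProjGenLinGroup.mk_eq_one, Matrix.GeneralLinearGroup.center_eq_range_scalar]
  have hne : (G : Matrix (Fin 2) (Fin 2) K) 1 1 ≠ 0 := fun h0 => G.det_ne_zero (by
    simp [Matrix.det_fin_two, h0, a01])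
  refine ⟨Units.mk0 _ hne, ?_⟩
  ext a b
  fin_cases a <;> fin_cases b <;> simp [Matrix.GeneralLinearGroup.coe_scalar, a01, a10, k01]


end model

theorem exists_mat_unit {K : Type*} [Field K] (φ : F →+* K) {I s : K} (hI : I * I = -1)
    (hs : s * s * φ (f ⬝ᵥ f) = 1) {u : Fin n → F} (hu : InY i k f u) (huu : u ⬝ᵥ u ≠ 0) :
    ∃ G : GL (Fin 2) K, (G : Matrix (Fin 2) (Fin 2) K) = Tri.mat φ I s i k f u ∧
      (G : Matrix (Fin 2) (Fin 2) K) * G = φ (u ⬝ᵥ u) • 1 := by
  have h2 : (2 : K) ≠ 0 := fun h0 => hT.two ((map_eq_zero φ).1 (by rw [map_ofNat]; exact h0))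
  have hsq : Tri.mat φ I s i k f u * Tri.mat φ I s i k f u = φ (u ⬝ᵥ u) • (1 : Matrix (Fin 2) (Fin 2) K) := by
    have h := hT.anticomm φ I s hI hs hu hu
    rw [← two_smul K, mul_smul] at h
    exact smul_right_injective _ h2 h
  have hdet : (Tri.mat φ I s i k f u).det ≠ 0 := fun h0 => by
    have h := congrArg Matrix.det hsq
    rw [Matrix.det_mul, h0, zero_mul, Matrix.det_smul, Matrix.det_one, mul_one] at h
    exact pow_ne_zero _ ((map_ne_zero φ).2 huu) h.symm
  exact ⟨Matrix.GeneralLinearGroup.mkOfDetNeZero _ hdet, rfl, hsq⟩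


end Tr

end CfsgLib.Geo.OFrame
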